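import Cfsg.Agent.Omega.OM.SwapV.Torus.LocPlugV

/-!
# TORUS over `LnV` (box R): `TorusV.TK` from `LnV` (helper662, over helper422's `LocPlugV.lean`)

**`tkV_of`** = `tk_of'`.
-/

set_option autoImplicit false
set_option linter.unusedSectionVars false

namespace Cfsg.Agent.Omega.OM.SwapV.TorusV

open Subgroup Cfsg Cfsg.Agent.Omega.MinPar Cfsg.Agent.ZN.ChoiceBase Cfsg.Agent.ZN.ChoiceSit
open Cfsg.Agent.ZN (jj zj bau zc zl o2)
open Cfsg.Agent.Omega.NO3S.Level (lev lev_mono lev_isLev Lev lev_le)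
open Cfsg.Agent.Omega.OM.SwapL (ZL BL lb)
open Cfsg.Agent.Omega.OM.SwapV.Lv (LnV)
open Cfsg.Agent.Omega.OM.Lev.Low.TorusK (stM stY)
open Cfsg.Agent.Omega.OM.Lev.Low.TorusV (TK)
open Cfsg.Agent.Omega.NOThreeL.RTree (RB)

universe u

variable {G : Type u} [Group G] [Finite G] {S : Sylow 2 G} {n : ℕ} {ι : Type} [Finite ι] {V Q : Subgroup G}
  {L W Z C A : ι → Subgroup G}

/-- **The instance of `TK`.** -/
theorem tkV_of (R : RB S) (h : LnV S V Q n L W Z C A) (h3 : ∀ l m : ι, ∃ r, r ≠ l ∧ r ≠ m)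
    (hall : ∀ P : Subgroup G, IsParS (S : Subgroup G) P → lev (S : Subgroup G) n ≤ o2 P)
    (tr : ∀ i j, ∃ g ∈ MB (S : Subgroup G) n, cj g (W i) = W j) {j : ℕ} (hj : j ≤ n) {z : G}
    (hz : z ∈ ZL (S : Subgroup G) n) (hzC : ∀ i, z ∉ C i) :
    TK (MB (S : Subgroup G) n) (BL (S : Subgroup G) n) Q V (zc (lev (S : Subgroup G) n))
      (ZL (S : Subgroup G) n) (LevB.BL (S : Subgroup G) j) (zc (lev (S : Subgroup G) j)) (stM (S : Subgroup G) j)
      (stY (S : Subgroup G) j) L W Z C A z :=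
  tk_of' R h h3 hall tr hj hz hzC

end Cfsg.Agent.Omega.OM.SwapV.TorusV
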