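import Cfsg.Agent.Omega.OM.SwapV.Torus.End
import Cfsg.Agent.Omega.OM.SwapV.Torus.PlugV

/-!
# NoTor (box R): no torus block over `LnV`, `k ≥ 3`

`M = MZ S ⊓ N(B)` is transitive on the lines, `lev S n ≤ O₂(P)` for all `P ∈ P*(S)`.

* `noTor` : there is no torus block `K` (helper607's `BK`) over a line `W l`.
-/

set_option autoImplicit false
set_option linter.unusedSectionVars false
set_option linter.unusedVariables false

namespace Cfsg.Agent.Omega.OM.SwapV.TorusV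

open Subgroup Cfsg Cfsg.Agent.Omega.MinPar Cfsg.Agent.ZN.ChoiceBase Cfsg.Agent.ZN.ChoiceSit
open Cfsg.Agent.ZN (jj zj bau zc zl o2)
open Cfsg.Agent.Omega.NO3S.Level (lev lev_mono lev_isLev Lev lev_le)
open Cfsg.Agent.Omega.OM.SwapL (ZL BL lb)
open Cfsg.Agent.Omega.OM.SwapV.Lv (LnV)
open Cfsg.Agent.Omega.NOThreeL.Merge (MZ le_MZ S_le_MZ)
open Cfsg.Agent.Omega.NOThreeL.RTree (RB)
open Cfsg.Agent.Omega.OM.Lev

universe u

variable {G : Type u} [Group G] [Finite G] {S : Sylow 2 G} {n : ℕ} {ι : Type} [Finite ι] {V Q : Subgroup G}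
  {L W Z C A : ι → Subgroup G}

/-- **NoTor**: there is no torus block. -/
theorem noTor (R : RB S)
    (hall : ∀ P : Subgroup G, IsParS (S : Subgroup G) P → lev (S : Subgroup G) n ≤ o2 P)
    (h : LnV S V Q n L W Z C A) (h3 : ∀ l m : ι, ∃ r, r ≠ l ∧ r ≠ m)
    (hL : ∀ i, L i ≤ MZ (S : Subgroup G))
    (hM : ∀ i j, ∃ g ∈ MZ (S : Subgroup G), g ∈ normalizer (BL (S : Subgroup G) n : Set G) ∧ cj g (W i) = W j)
    {j : ℕ} (hj : j ≤ n) {l : ι} {K N N1 N0 : Subgroup G}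
    (k : Low.TorusK.BK (BL (S : Subgroup G) n) (LevB.BL (S : Subgroup G) j) (zc (lev (S : Subgroup G) j))
      (Low.TorusK.stM (S : Subgroup G) j) (Low.TorusK.stY (S : Subgroup G) j) W l K N N1 N0)
    (a : Low.TorusK.NA (BL (S : Subgroup G) n) K N) : False := by
  obtain ⟨z, hz, hzC, -, -⟩ := LocL.exists_z h
  have tk := tkV_of R h h3 hall (fun i j => by
    obtain ⟨g, hg, hgB, e⟩ := hM i j
    exact ⟨g, mem_inf.2 ⟨hg, hgB⟩, e⟩) hj hz hzC
  have k' : Low.TorusV.BK (BL (S : Subgroup G) n) (LevB.BL (S : Subgroup G) j) (zc (lev (S : Subgroup G) j))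
      (Low.TorusK.stM (S : Subgroup G) j) (Low.TorusK.stY (S : Subgroup G) j) W l K N N1 N0 :=
    { pb := k.pb
      NY := k.NY
      KM := k.KM
      WN := k.WN
      WN0 := k.WN0
      cW := k.cW
      BX := k.BX
      tor := k.tor }
  refine Low.TorusV.false_orb tk S.isPGroup' (lb S n).BS (S_le_MB R) k' a ?_
  intro x hx hx1 hxc H hH hU
  have hxB : x ∈ BL (S : Subgroup G) n := (lb S n).ZB hx
  have hxS : x ∈ zc (S : Subgroup G) :=
    mem_zc.2 ⟨(lb S n).BS hxB, SQ1.Bau.elem_sq h.fr.el x (h.fr.ZJV hx), hxc⟩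
  exact LocL.fact S hall x hxS H hH hU j hj

end Cfsg.Agent.Omega.OM.SwapV.TorusV
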