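import Cfsg.Agent.Omega.OM.SwapV.Lv.Frame
import Cfsg.Agent.Omega.OM.Lev.Low.Line
import Cfsg.Agent.Omega.EK3.Q.Loc
import Cfsg.Agent.Omega.FrameNOFF

/-!
# TORUS over an abstract module `V` (box R), `q = 2`: the local inputs of the frame (helper630 / helper662)

Port of `OM/Lev/Low/TorusK/LocIn.lean` and `OM/Lev/Low/Full.lean` to `h : Lv.LnV S V Q n L W Z C A` (no `Bg`, `S` not
transitive on the blocks).

* `V_le_iSup`, `C_eq`, `perm'`, `C_cj`, `C_cj'` : `V = ⨆ W i`, `C i = ⨆ (j ≠ i), W j`, `N_G(B)` permutes `(W i, Z i, C i)`;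
* `nS`, `zS` : `N_G(B)`, `S` centralise the elements of full support of `Z_J`;
* `wt` : **(W)** : `z, g z g⁻¹ ∈ Z_J`, `z` of full support `⟹` `g z g⁻¹` of full support;
* `full_unique`, `exists_full`, `exists_z` : the element of full support is unique, exists and lies in `Ω₁Z(S)`;
* `syl` : `B` is a Sylow 2-subgroup of `C_G(Z p : p ≠ l)`;
* `o2CI_le_B`, `loc1`, `loc2` : `E = Ω₁Z(O₂(C_G(Z p : p ≠ l, m)))` is elementary abelian, `Z_J ≤ E ≤ B`;
* `fact`, `fact'`, `fact_zc`, `fact_full` : a local `H ≥ S` is generated by `N_H(Ω₁Z(lev S j))` and `C_H(x)`, for every `x ∈ Ω₁Z(S)`.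
-/

set_option autoImplicit false
set_option linter.unusedSectionVars false

namespace Cfsg.Agent.Omega.OM.SwapV.TorusV.LocL

open Subgroup Cfsg Cfsg.Agent.ZN.ChoiceBase Cfsg.Agent.ZN.ChoiceSit
open Cfsg.Agent.ZN (jj zj bau zc zl o2)
open Cfsg.Agent.Omega.MinPar (IsLoc IsPar IsParS)
open Cfsg.Agent.Omega.OM.Lev.Uni (FrL)
open Cfsg.Agent.Omega.OM.SwapL (ZL BL lb wc nb mem_C_iff)
open Cfsg.Agent.Omega.OM.SwapV.Lv (LnV)
open Cfsg.Agent.Omega.NO3S.Level (lev lev_mono lev_isLev lev_le)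
open Cfsg.Agent.Omega.OM.Lev.Low.Line (Full Tr mc)
open Cfsg.Agent.Omega.EK3.Q.Loc (YI CI mem_YI mem_CI YI_le_left YI_le_right)

universe u

/-! ### The frame `FrL` -/

section frl

variable {G : Type u} [Group G] {ι : Type} {B Q V X ZJ : Subgroup G} {L W Z C A : ι → Subgroup G} {q : ℕ}

/-- `W`-components: `v ∈ V` is a product of elements of the `W j`, `j ∈ s`, modulo the intersection of the `C j`. -/
theorem comp [Finite ι] (h : FrL B Q V X ZJ L W Z C A q) (p : ι → Prop) {v : G} (hv : v ∈ V) :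
    ∃ w ∈ (⨆ j : {j : ι // p j}, W j), w ∈ V ∧ ∀ i, p i → w⁻¹ * v ∈ C i := by
  classical
  have := Fintype.ofFinite ι
  have key : ∀ s : Finset ι, (∀ i ∈ s, p i) → ∃ w ∈ (⨆ j : {j : ι // p j}, W j), w ∈ V ∧ ∀ i ∈ s, w⁻¹ * v ∈ C i := by
    intro s
    induction s using Finset.induction_on with
    | empty => exact fun _ => ⟨1, one_mem _, one_mem _, fun i hi => by simp at hi⟩
    | insert j s hj ih =>
      intro hs
      obtain ⟨w, hw, hwV, hwC⟩ := ih fun i hi => hs i (Finset.mem_insert_of_mem hi)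
      obtain ⟨a, ha, c, hc, e⟩ := h.WC j (w⁻¹ * v) (mul_mem (inv_mem hwV) hv)
      refine ⟨w * a, mul_mem hw ?_, mul_mem hwV (h.WV j ha), fun i hi => ?_⟩
      · exact (le_iSup (fun j : {j : ι // p j} => W j) ⟨j, hs j (Finset.mem_insert_self j s)⟩) ha
      · have e1 : (w * a)⁻¹ * v = a⁻¹ * (w⁻¹ * v) := by group
        rw [e1]
        rcases Finset.mem_insert.1 hi with rfl | hi
        · rw [e]
          have : a⁻¹ * (a * c) = c := by group
          rw [this]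
          exact hc
        · have hij : i ≠ j := fun e => hj (e ▸ hi)
          exact mul_mem (inv_mem (h.WjC i j hij ha)) (hwC i hi)
  obtain ⟨w, hw, hwV, hwC⟩ := key (Finset.univ.filter p) fun i hi => (Finset.mem_filter.1 hi).2
  exact ⟨w, hw, hwV, fun i hi => hwC i (Finset.mem_filter.2 ⟨Finset.mem_univ i, hi⟩)⟩

/-- **`C i = ⨆ (j ≠ i), W j`** -/
theorem C_eq' [Finite ι] (h : FrL B Q V X ZJ L W Z C A q) (i : ι) : C i = ⨆ j : {j : ι // j ≠ i}, W j := by
  apply le_antisymm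
  · intro c hc
    obtain ⟨w, hw, hwV, hwC⟩ := comp h (fun j => j ≠ i) (h.CV i hc)
    have hwi : w ∈ C i := (iSup_le fun j : {j : ι // j ≠ i} => h.WjC i j j.2.symm) hw
    have h1 := h.C0 (w⁻¹ * c) (mul_mem (inv_mem hwV) (h.CV i hc)) fun j => by
      by_cases hj : j = i
      · rw [hj]; exact mul_mem (inv_mem hwi) hc
      · exact hwC j hj
    rw [← inv_mul_eq_one.1 h1]
    exact hw
  · exact iSup_le fun j => h.WjC i j j.2.symm

/-- **`V = ⨆ W i`** -/
theorem V_le_iSup' [Finite ι] (h : FrL B Q V X ZJ L W Z C A q) : V ≤ ⨆ i, W i := by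
  intro v hv
  obtain ⟨w, hw, hwV, hwC⟩ := comp h (fun _ => True) hv
  have h1 := h.C0 (w⁻¹ * v) (mul_mem (inv_mem hwV) hv) fun j => hwC j trivial
  rw [← inv_mul_eq_one.1 h1]
  exact (iSup_le fun j : {j : ι // True} => le_iSup W j.1) hw

/-- `Z_J ≤ ⨆ Z i` -/
theorem ZJ_le_iSup' [Finite ι] (h : FrL B Q V X ZJ L W Z C A q) : ZJ ≤ ⨆ i, Z i := by
  classical
  have := Fintype.ofFinite ι
  have key : ∀ s : Finset ι, ∀ v ∈ ZJ, ∃ w ∈ (⨆ l, Z l), w ∈ ZJ ∧ ∀ i ∈ s, w⁻¹ * v ∈ C i := by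
    intro s
    induction s using Finset.induction_on with
    | empty => exact fun v _ => ⟨1, one_mem _, one_mem _, fun i hi => by simp at hi⟩
    | insert j s hj ih =>
      intro v hv
      obtain ⟨w, hw, hwJ, hwC⟩ := ih v hv
      obtain ⟨a, ha, c, hc, -, e⟩ := h.split_ZJ j (mul_mem (inv_mem hwJ) hv)
      refine ⟨w * a, mul_mem hw ((le_iSup Z j) ha), mul_mem hwJ (h.Z_le j ha), fun i hi => ?_⟩
      have e1 : (w * a)⁻¹ * v = a⁻¹ * (w⁻¹ * v) := by group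
      rw [e1]
      rcases Finset.mem_insert.1 hi with rfl | hi
      · rw [e]
        have : a⁻¹ * (a * c) = c := by group
        rw [this]
        exact hc
      · have hij : i ≠ j := fun e => hj (e ▸ hi)
        exact mul_mem (inv_mem (h.WjC i j hij ((h.blk j).ZV ha))) (hwC i hi)
  intro v hv
  obtain ⟨w, hw, hwJ, hwC⟩ := key Finset.univ v hv
  have h1 := h.C0 (w⁻¹ * v) (h.ZJV (mul_mem (inv_mem hwJ) hv)) fun i => hwC i (Finset.mem_univ i)
  have h2 : v = w := (inv_mul_eq_one.1 h1).symm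
  rw [h2]
  exact hw

/-- at most one element of `Z_J` has full support -/
theorem full_unique' (h : FrL B Q V X ZJ L W Z C A 2) {z z' : G} (hz : z ∈ ZJ) (hz' : z' ∈ ZJ) (hf : Full C z)
    (hf' : Full C z') : z = z' := by
  have h1 : z * z'⁻¹ = 1 := h.C0 _ (mul_mem (h.ZJV hz) (inv_mem (h.ZJV hz'))) fun i => by
    obtain ⟨a, ha, b, hb, e⟩ := Lev.Low.Line.ZJ_cmp h hz i
    obtain ⟨a', ha', b', hb', e'⟩ := Lev.Low.Line.ZJ_cmp h hz' i
    have h2 : a ≠ 1 := by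
      rintro rfl
      exact hf i (by rw [e, one_mul]; exact hb)
    have h3 : a' ≠ 1 := by
      rintro rfl
      exact hf' i (by rw [e', one_mul]; exact hb')
    have e3 := Lev.Low.Line.Z_two h ha h2 ha' h3
    have h4 : a * (b * b'⁻¹) = b * b'⁻¹ * a := mc h (h.ZV i ha) (h.CV i (mul_mem hb (inv_mem hb')))
    have h5 : z * z'⁻¹ = b * b'⁻¹ := by
      rw [e, e', ← e3]
      calc a * b * (a * b')⁻¹ = a * (b * b'⁻¹) * a⁻¹ := by group
        _ = _ := by rw [h4]; group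
    rw [h5]
    exact mul_mem hb (inv_mem hb')
  exact mul_inv_eq_one.1 h1

end frl

variable {G : Type u} [Group G] [Finite G] {ι : Type} [Finite ι] {S : Sylow 2 G} {V Q : Subgroup G} {n : ℕ}
  {L W Z C A : ι → Subgroup G}

/-! ### `B`, `Z_J` -/

omit [Finite ι] in
theorem B_two (S : Sylow 2 G) (n : ℕ) : IsPGroup 2 (BL (S : Subgroup G) n) := (lb S n).Bp

omit [Finite ι] in
theorem B_cent (S : Sylow 2 G) (n : ℕ) : BL (S : Subgroup G) n ≤ centralizer (ZL (S : Subgroup G) n : Set G) :=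
  inf_le_right

omit [Finite ι] in
theorem ZL_le_B (S : Sylow 2 G) (n : ℕ) : ZL (S : Subgroup G) n ≤ BL (S : Subgroup G) n := (lb S n).ZB

omit [Finite ι] in
theorem S_norm_B (S : Sylow 2 G) (n : ℕ) : (S : Subgroup G) ≤ normalizer (BL (S : Subgroup G) n : Set G) :=
  UniPlus.WC.weakNormal (wc S n) _ S.isPGroup' (lb S n).BS

omit [Finite ι] in
theorem le_norm_B {T : Subgroup G} (hT : IsPGroup 2 T) (hB : BL (S : Subgroup G) n ≤ T) :
    T ≤ normalizer (BL (S : Subgroup G) n : Set G) := UniPlus.WC.weakNormal (wc S n) _ hT hB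

omit [Finite ι] in
theorem syl_B (S : Sylow 2 G) (n : ℕ) : Syl (BL (S : Subgroup G) n) (centralizer (ZL (S : Subgroup G) n : Set G)) :=
  (lb S n).syl

omit [Finite ι] in
/-- a 2-subgroup of `C_G(ZJ)` normalised by `B` lies in `B` -/
theorem le_B_of {R : Subgroup G} (hR : IsPGroup 2 R) (hRD : R ≤ centralizer (ZL (S : Subgroup G) n : Set G))
    (hn : BL (S : Subgroup G) n ≤ normalizer (R : Set G)) : R ≤ BL (S : Subgroup G) n := by
  have : Fact (Nat.Prime 2) := ⟨Nat.prime_two⟩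
  have h1 : IsPGroup 2 ((BL (S : Subgroup G) n ⊔ R : Subgroup G)) :=
    IsPGroup.to_sup_of_normal_right' (B_two S n) hR hn
  have h2 := (syl_B S n).2.2 _ (sup_le (B_cent S n) hRD) h1 le_sup_left
  rw [← h2]
  exact le_sup_right

/-! ### `V`, `C i` -/

theorem V_le_iSup (h : LnV S V Q n L W Z C A) : V ≤ ⨆ i, W i := V_le_iSup' h.fr

theorem ZJ_le_iSup (h : LnV S V Q n L W Z C A) : ZL (S : Subgroup G) n ≤ ⨆ i, Z i := ZJ_le_iSup' h.fr

theorem C_eq (h : LnV S V Q n L W Z C A) (i : ι) : C i = ⨆ j : {j : ι // j ≠ i}, W j := C_eq' h.fr i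

omit [Finite ι] in
theorem W_ne (h : LnV S V Q n L W Z C A) (i : ι) : W i ≠ ⊥ := by
  intro e
  obtain ⟨z, hz, hz1⟩ := Lv.Z_ne h i
  have h1 := Lv.Z_W h i hz
  rw [e, mem_bot] at h1
  exact hz1 h1

omit [Finite ι] in
theorem W_inj (h : LnV S V Q n L W Z C A) {i j : ι} (e : W i = W j) : i = j := by
  by_contra hne
  obtain ⟨z, hz, hz1⟩ := Lv.Z_ne h i
  exact Lv.not_mem_C h hz hz1 (h.fr.WjC i j hne (e ▸ Lv.Z_W h i hz))

/-- **`N_G(B)` permutes the `(W i, Z i, C i)`** -/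
theorem perm' (h : LnV S V Q n L W Z C A) {g : G} (hg : g ∈ normalizer (BL (S : Subgroup G) n : Set G)) :
    ∃ σ : ι → ι, Function.Injective σ ∧ ∀ i, cj g (W i) = W (σ i) ∧ cj g (Z i) = Z (σ i) ∧ cj g (C i) = C (σ i) := by
  choose σ hσZ hσW _ using Lv.perm h hg
  have hinj : Function.Injective σ := fun i j e => by
    have h1 : cj g (W i) = cj g (W j) := by rw [hσW, hσW, e]
    have h2 := congrArg (cj g⁻¹) h1
    rw [cj_inv_cj, cj_inv_cj] at h2
    exact W_inj h h2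
  have hsurj : Function.Surjective σ := Finite.injective_iff_surjective.1 hinj
  refine ⟨σ, hinj, fun i => ⟨hσW i, hσZ i, ?_⟩⟩
  rw [C_eq h i, C_eq h (σ i)]
  show Subgroup.map _ _ = _
  rw [Subgroup.map_iSup]
  apply le_antisymm
  · refine iSup_le fun j => ?_
    have h1 : Subgroup.map (MulAut.conj g).toMonoidHom (W j) = W (σ j) := hσW j
    rw [h1]
    exact le_iSup (fun k : {k : ι // k ≠ σ i} => W k) ⟨σ j, fun e => j.2 (hinj e)⟩
  · refine iSup_le fun k => ?_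
    obtain ⟨j, hj⟩ := hsurj k
    have h1 : Subgroup.map (MulAut.conj g).toMonoidHom (W j) = W k := by
      rw [← hj]; exact hσW j
    rw [← h1]
    exact le_iSup (fun k : {k : ι // k ≠ i} => Subgroup.map (MulAut.conj g).toMonoidHom (W k))
      ⟨j, fun e => k.2 (by rw [← hj, e])⟩

/-- **`(C i)^g = C j` if `(W i)^g = W j`** -/
theorem C_cj (h : LnV S V Q n L W Z C A) {g : G} (hg : g ∈ normalizer (BL (S : Subgroup G) n : Set G)) {i j : ι}
    (e : cj g (W i) = W j) : cj g (C i) = C j := by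
  obtain ⟨σ, -, h1⟩ := perm' h hg
  have h2 : j = σ i := W_inj h (e.symm.trans (h1 i).1)
  rw [h2]
  exact (h1 i).2.2

/-- **`(C i)^g = C j` if `(Z i)^g = Z j`** -/
theorem C_cj' (h : LnV S V Q n L W Z C A) {g : G} (hg : g ∈ normalizer (BL (S : Subgroup G) n : Set G)) {i j : ι}
    (e : cj g (Z i) = Z j) : cj g (C i) = C j := C_cj h hg (Lv.W_cj h hg e)

/-! ### Blocks -/

omit [Finite ι] in
theorem block (h : LnV S V Q n L W Z C A) (i : ι) : LemmaK.Block 2 (BL (S : Subgroup G) n) (L i) (W i) :=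
  (nb h.fr i).block (wc S n) (B_two S n)

omit [Finite ι] in
/-- `L i` centralises `Z j`, `j ≠ i` -/
theorem L_cent_Z (h : LnV S V Q n L W Z C A) {i j : ι} (hij : i ≠ j) {l z : G} (hl : l ∈ L i) (hz : z ∈ Z j) :
    l * z = z * l := h.fr.LC i l hl z (h.fr.Z_le j hz) (Lv.Z_C h hij hz)

/-! ### Full support -/

omit [Finite ι] in
theorem norm_ZL {y z : G} (hy : y ∈ normalizer (BL (S : Subgroup G) n : Set G)) (hz : z ∈ ZL (S : Subgroup G) n) :
    y * z * y⁻¹ ∈ ZL (S : Subgroup G) n := Lv.ZL_cj_mem hy hz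

theorem full_norm (h : LnV S V Q n L W Z C A) {y z : G} (hy : y ∈ normalizer (BL (S : Subgroup G) n : Set G))
    (hz : z ∈ ZL (S : Subgroup G) n) (hf : Full C z) : Full C (y * z * y⁻¹) := by
  intro j hj
  obtain ⟨i, -, -, h1⟩ := Lv.perm h (inv_mem hy) j
  have h2 := (h1 _ (norm_ZL hy hz)).2 hj
  have e : y⁻¹ * (y * z * y⁻¹) * y⁻¹⁻¹ = z := by group
  rw [e] at h2
  exact hf i h2

omit [Finite ι] in
theorem full_unique (h : LnV S V Q n L W Z C A) {z z' : G} (hz : z ∈ ZL (S : Subgroup G) n)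
    (hz' : z' ∈ ZL (S : Subgroup G) n) (hf : Full C z) (hf' : Full C z') : z = z' := full_unique' h.fr hz hz' hf hf'

theorem exists_full (h : LnV S V Q n L W Z C A) : ∃ z ∈ ZL (S : Subgroup G) n, Full C z :=
  Lev.Low.Line.exists_full h.fr

/-- `N_G(B)` centralises the elements of full support of `Z_J` -/
theorem nS (h : LnV S V Q n L W Z C A) {z : G} (hz : z ∈ ZL (S : Subgroup G) n) (hf : ∀ i, z ∉ C i) {s : G}
    (hs : s ∈ normalizer (BL (S : Subgroup G) n : Set G)) : s * z = z * s := by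
  have h2 := full_unique h (norm_ZL hs hz) hz (full_norm h hs hz hf) hf
  exact mul_inv_eq_iff_eq_mul.1 h2

/-- **(zS)** `S` centralises the elements of full support of `Z_J` -/
theorem zS (h : LnV S V Q n L W Z C A) {z : G} (hz : z ∈ ZL (S : Subgroup G) n) (hf : ∀ i, z ∉ C i) {s : G}
    (hs : s ∈ (S : Subgroup G)) : s * z = z * s := nS h hz hf (S_norm_B S n hs)

/-- the element of full support lies in `Ω₁Z(S)` -/
theorem mem_zc_S (h : LnV S V Q n L W Z C A) {z : G} (hz : z ∈ ZL (S : Subgroup G) n) (hf : ∀ i, z ∉ C i) :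
    z ∈ zc (S : Subgroup G) :=
  ZN.ChoiceBase.mem_zc.2 ⟨(lb S n).BS (ZL_le_B S n hz), (lb S n).sq z hz, fun _ hs => zS h hz hf hs⟩

/-- the element of full support: it lies in `Z_J`, in `Ω₁Z(S)` and is centralised by `N_G(B)` -/
theorem exists_z (h : LnV S V Q n L W Z C A) : ∃ z ∈ ZL (S : Subgroup G) n, (∀ i, z ∉ C i) ∧
    z ∈ zc (S : Subgroup G) ∧ ∀ s ∈ normalizer (BL (S : Subgroup G) n : Set G), s * z = z * s := by
  obtain ⟨z, hz, hf⟩ := exists_full h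
  exact ⟨z, hz, hf, mem_zc_S h hz hf, fun s hs => nS h hz hf hs⟩

/-- **(W)** -/
theorem wt (h : LnV S V Q n L W Z C A) : ∀ g z : G, z ∈ ZL (S : Subgroup G) n → g * z * g⁻¹ ∈ ZL (S : Subgroup G) n →
    (∀ i, z ∉ C i) → ∀ i, g * z * g⁻¹ ∉ C i := by
  intro g z hz hg hf
  have : Fact (Nat.Prime 2) := ⟨Nat.prime_two⟩
  obtain ⟨z', hz'⟩ : ∃ z', z' = g * z * g⁻¹ := ⟨_, rfl⟩
  rw [← hz'] at hg ⊢
  have hBz : BL (S : Subgroup G) n ≤ centralizer ({z'} : Set G) := by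
    intro b hb
    rw [mem_centralizer_singleton_iff]
    exact (mem_centralizer_iff.1 (B_cent S n hb) z' hg).symm
  have hSz : ((g • S : Sylow 2 G) : Subgroup G) ≤ centralizer ({z'} : Set G) := by
    rw [Sylow.coe_subgroup_smul]
    rintro _ ⟨s, hs, rfl⟩
    rw [mem_centralizer_singleton_iff]
    have h1 := zS h hz hf hs
    change g * s * g⁻¹ * z' = z' * (g * s * g⁻¹)
    rw [hz']
    calc g * s * g⁻¹ * (g * z * g⁻¹) = g * (s * z) * g⁻¹ := by group
      _ = g * (z * s) * g⁻¹ := by rw [h1]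
      _ = _ := by group
  have hB2 : IsPGroup 2 ((BL (S : Subgroup G) n).subgroupOf (centralizer ({z'} : Set G))) :=
    (B_two S n).comap_of_injective _ (Subgroup.subtype_injective _)
  obtain ⟨R, hR⟩ := hB2.exists_le_sylow
  obtain ⟨x, hx⟩ := MulAction.exists_smul_eq (centralizer ({z'} : Set G)) ((g • S).subtype hSz) R
  have h2 : BL (S : Subgroup G) n ≤ cj ((x : G) * g) (S : Subgroup G) := by
    intro b hb
    have h3 : (⟨b, hBz hb⟩ : centralizer ({z'} : Set G)) ∈ R := hR hb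
    rw [← hx] at h3
    obtain ⟨⟨c, hc⟩, hc1, e⟩ := h3
    obtain ⟨s, hs, rfl⟩ := hc1
    refine ⟨s, hs, ?_⟩
    have e2 : (x : G) * (g * s * g⁻¹) * (x : G)⁻¹ = b := congrArg Subtype.val e
    change (x : G) * g * s * ((x : G) * g)⁻¹ = b
    rw [← e2]
    group
  have h3 : cj ((x : G) * g)⁻¹ (BL (S : Subgroup G) n) ≤ (S : Subgroup G) := by
    have := cj_mono ((x : G) * g)⁻¹ h2
    rwa [cj_inv_cj] at this
  have h4 : ((x : G) * g)⁻¹ ∈ normalizer (BL (S : Subgroup G) n : Set G) :=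
    mem_normalizer_iff_cj.2 (wc S n (S : Subgroup G) S.isPGroup' (lb S n).BS _ h3)
  have h5 : (x : G) * g ∈ normalizer (BL (S : Subgroup G) n : Set G) := inv_mem_iff.1 h4
  have h6 := full_norm h h5 hz hf
  have e : (x : G) * g * z * ((x : G) * g)⁻¹ = z' := by
    have h7 := mem_centralizer_singleton_iff.1 x.2
    calc (x : G) * g * z * ((x : G) * g)⁻¹ = x * (g * z * g⁻¹) * (x : G)⁻¹ := by group
      _ = z' := by rw [← hz', h7]; group
  rwa [e] at h6

/-! ### Sylow, `O₂(C_G(Z p : p ≠ l, m))` -/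

/-- an element of `C_ij` centralising `Z i`, `Z j` centralises `ZJ` -/
theorem mem_D (h : LnV S V Q n L W Z C A) {i j : ι} {x : G} (hx : x ∈ CI Z i j) (hi : ∀ z ∈ Z i, z * x = x * z)
    (hj : ∀ z ∈ Z j, z * x = x * z) : x ∈ centralizer (ZL (S : Subgroup G) n : Set G) := by
  have h1 : (⨆ l, Z l) ≤ centralizer ({x} : Set G) := by
    refine iSup_le fun l z hz => mem_centralizer_iff.2 fun y hy => ?_
    rw [Set.mem_singleton_iff.1 hy]
    by_cases hli : l = i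
    · subst hli; exact (hi z hz).symm
    · by_cases hlj : l = j
      · subst hlj; exact (hj z hz).symm
      · exact (mem_CI.1 hx l hli hlj z hz).symm
  exact mem_centralizer_iff.2 fun z hz =>
    (mem_centralizer_iff.1 (h1 (ZJ_le_iSup h hz)) x (Set.mem_singleton x)).symm

/-- An element of `N_G(B)` which centralises `Z p` for all `p ≠ l` centralises `Z_J`. -/
theorem mem_cent (h : LnV S V Q n L W Z C A) {l : ι} {t : G} (ht : t ∈ normalizer (BL (S : Subgroup G) n : Set G))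
    (hc : ∀ p, p ≠ l → ∀ x ∈ Z p, t * x = x * t) : t ∈ centralizer (ZL (S : Subgroup G) n : Set G) := by
  obtain ⟨j, hj, -, -⟩ := Lv.perm h ht l
  have hjl : j = l := by
    by_contra hne
    have h1 : cj t (Z j) = Z j := by
      have h2 : t ∈ centralizer (Z j : Set G) := mem_centralizer_iff.2 fun x hx => (hc j hne x hx).symm
      exact cj_eq_of_mem_normalizer (centralizer_le_normalizer _ h2)
    have h2 := hj.trans h1.symm
    have h3 := congrArg (cj t⁻¹) h2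
    rw [cj_inv_cj, cj_inv_cj] at h3
    exact hne (Lv.Z_inj h h3).symm
  rw [hjl] at hj
  have hl : ∀ z ∈ Z l, z * t = t * z := fun z hz => (Lv.cent_of_cj h hj hz).symm
  exact mem_D h (i := l) (j := l) (mem_CI.2 fun p hp _ z hz => (hc p hp z hz).symm) hl hl

/-- **(syl)** `B` is a Sylow 2-subgroup of `C_G(Z p : p ≠ l)`. -/
theorem syl (h : LnV S V Q n L W Z C A) :
    ∀ (l : ι) (T : Subgroup G), IsPGroup 2 T → BL (S : Subgroup G) n ≤ T →
      (∀ p, p ≠ l → T ≤ centralizer (Z p : Set G)) → T ≤ BL (S : Subgroup G) n := by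
  intro l T hT hBT hc
  refine le_B_of hT (fun t ht => ?_) (hBT.trans le_normalizer)
  exact mem_cent h (l := l) (le_norm_B hT hBT ht) fun p hp x hx =>
    (mem_centralizer_iff.1 (hc p hp ht) x hx).symm

omit [Finite ι] in
theorem D_le_Y (h : LnV S V Q n L W Z C A) (j : ι) : centralizer (ZL (S : Subgroup G) n : Set G) ≤ YI Z j :=
  fun _ hx => mem_YI.2 fun l _ z hz => mem_centralizer_iff.1 hx z (h.fr.Z_le l hz)

omit [Finite ι] in
theorem D_le_C (h : LnV S V Q n L W Z C A) (i j : ι) : centralizer (ZL (S : Subgroup G) n : Set G) ≤ CI Z i j :=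
  (D_le_Y h j).trans (YI_le_right i j)

omit [Finite ι] in
theorem B_le_C (h : LnV S V Q n L W Z C A) (i j : ι) : BL (S : Subgroup G) n ≤ CI Z i j :=
  (B_cent S n).trans (D_le_C h i j)

omit [Finite ι] in
theorem L_le_Y (h : LnV S V Q n L W Z C A) (j : ι) : L j ≤ YI Z j := fun _ hx => mem_YI.2 fun _ hl _ hz =>
  (L_cent_Z h hl.symm hx hz).symm

omit [Finite ι] in
theorem ZJ_comm (h : LnV S V Q n L W Z C A) {z w : G} (hz : z ∈ ZL (S : Subgroup G) n)
    (hw : w ∈ ZL (S : Subgroup G) n) : z * w = w * z := h.fr.Vc (h.fr.ZJV hz) (h.fr.ZJV hw)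

omit [Finite ι] in
/-- **`C_ij` has characteristic 2** (there is a third index). -/
theorem char2_CI (h : LnV S V Q n L W Z C A) {i j l : ι} (hi : l ≠ i) (hj : l ≠ j) :
    CI Z i j ⊓ centralizer (o2 (CI Z i j) : Set G) ≤ o2 (CI Z i j) := by
  set U : Subgroup G := ⨆ m : {m : ι // m ≠ i ∧ m ≠ j}, Z m with hU
  have e : CI Z i j = centralizer (U : Set G) := by
    apply le_antisymm
    · rw [Subgroup.le_centralizer_iff, hU]
      refine iSup_le fun m z hz => mem_centralizer_iff.2 fun x hx => ?_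
      exact (mem_CI.1 hx m.1 m.2.1 m.2.2 z hz).symm
    · intro x hx
      refine mem_CI.2 fun m hmi hmj z hz => mem_centralizer_iff.1 hx z ?_
      exact (le_iSup (fun m : {m : ι // m ≠ i ∧ m ≠ j} => Z m) ⟨m, hmi, hmj⟩) hz
  have hUV : U ≤ ZL (S : Subgroup G) n := iSup_le fun m => h.fr.Z_le m
  have hU2 : IsPGroup 2 U := (B_two S n).to_le (hUV.trans (ZL_le_B S n))
  have hU1 : U ≠ ⊥ := by
    intro h0
    obtain ⟨z, hz, hz1⟩ := Lv.Z_ne h l
    have h1 : z ∈ U := (le_iSup (fun m : {m : ι // m ≠ i ∧ m ≠ j} => Z m) ⟨l, hi, hj⟩) hz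
    rw [h0, mem_bot] at h1
    exact hz1 h1
  rw [e]
  exact NOne.LemmaT.char2_centralizer h.char2 hU2 hU1

omit [Finite ι] in
theorem o2CI_cent_left (h : LnV S V Q n L W Z C A) (i j : ι) : o2 (CI Z i j) ≤ centralizer (W i : Set G) := by
  have : Fact (Nat.Prime 2) := ⟨Nat.prime_two⟩
  exact (block h i).le_centralizer (isPGroup_o2 _)
    (((L_le_Y h i).trans (YI_le_left i j)).trans (le_normalizer_o2 _))

omit [Finite ι] in
theorem o2CI_cent_right (h : LnV S V Q n L W Z C A) (i j : ι) : o2 (CI Z i j) ≤ centralizer (W j : Set G) := by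
  have : Fact (Nat.Prime 2) := ⟨Nat.prime_two⟩
  exact (block h j).le_centralizer (isPGroup_o2 _)
    (((L_le_Y h j).trans (YI_le_right i j)).trans (le_normalizer_o2 _))

/-- `O₂(C_ij) ≤ C_G(ZJ)` -/
theorem o2CI_le_D (h : LnV S V Q n L W Z C A) (i j : ι) :
    o2 (CI Z i j) ≤ centralizer (ZL (S : Subgroup G) n : Set G) := fun x hx =>
  mem_D h (o2_le _ hx)
    (fun z hz => mem_centralizer_iff.1 (o2CI_cent_left h i j hx) z ((h.fr.blk i).ZV hz))
    (fun z hz => mem_centralizer_iff.1 (o2CI_cent_right h i j hx) z ((h.fr.blk j).ZV hz))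

/-- **`O₂(C_ij) ≤ B`** -/
theorem o2CI_le_B (h : LnV S V Q n L W Z C A) (i j : ι) : o2 (CI Z i j) ≤ BL (S : Subgroup G) n :=
  le_B_of (isPGroup_o2 _) (o2CI_le_D h i j) ((B_le_C h i j).trans (le_normalizer_o2 _))

/-- **`ZJ ≤ Ω₁Z(O₂(C_ij))`** -/
theorem ZJ_le_zc (h : LnV S V Q n L W Z C A) {i j l : ι} (hi : l ≠ i) (hj : l ≠ j) :
    ZL (S : Subgroup G) n ≤ zc (o2 (CI Z i j)) := by
  intro z hz
  have hc : z ∈ centralizer (o2 (CI Z i j) : Set G) := mem_centralizer_iff.2 fun x hx =>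
    (mem_centralizer_iff.1 (o2CI_le_D h i j hx) z hz).symm
  have hzD : z ∈ centralizer (ZL (S : Subgroup G) n : Set G) :=
    mem_centralizer_iff.2 fun _ hw => ZJ_comm h hw hz
  refine mem_zc.2 ⟨char2_CI h hi hj ⟨D_le_C h i j hzD, hc⟩, ?_, fun y hy => mem_centralizer_iff.1 hc y hy⟩
  exact (lb S n).sq z hz

omit [Finite ι] in
theorem le_normalizer_zc_o2 (X : Subgroup G) : X ≤ normalizer (zc (o2 X) : Set G) :=
  (le_normalizer_o2 X).trans (normalizer_le_of_cj (F := zc) LemmaK.Main.zc_cj _)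

/-- **(loc2)**, strong form: `E = Ω₁Z(O₂(C_G(Z p : p ≠ l, m)))`. -/
theorem loc2' (h : LnV S V Q n L W Z C A) {l m r : ι} (hl : r ≠ l) (hm : r ≠ m) :
    ∃ E : Subgroup G, IsElementaryAbelian 2 E ∧ E ≤ BL (S : Subgroup G) n ∧
      ZL (S : Subgroup G) n ≤ E ∧ ∀ g : G, (∀ p, p ≠ l → p ≠ m → ∀ x ∈ Z p, g * x = x * g) →
        g ∈ normalizer (E : Set G) := by
  refine ⟨zc (o2 (CI Z l m)), NO3S.OneLine.zc_elem _, (zc_le _).trans (o2CI_le_B h l m),
    ZJ_le_zc h hl hm, fun g hg => le_normalizer_zc_o2 _ ?_⟩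
  exact mem_CI.2 fun p hp hp' z hz => (hg p hp hp' z hz).symm

/-- **(loc1)** -/
theorem loc1 (h : LnV S V Q n L W Z C A) (h2 : ∀ l : ι, ∃ r, r ≠ l) :
    ∀ l : ι, ∃ E : Subgroup G, IsElementaryAbelian 2 E ∧ E ≤ BL (S : Subgroup G) n ∧
      ZL (S : Subgroup G) n ≤ E ∧ ∀ g : G, (∀ p, p ≠ l → ∀ x ∈ Z p, g * x = x * g) →
        g ∈ normalizer (E : Set G) := by
  intro l
  obtain ⟨r, hr⟩ := h2 l
  obtain ⟨E, h1, h2, h3, h4⟩ := loc2' h hr hr
  exact ⟨E, h1, h2, h3, fun g hg => h4 g fun p hp _ => hg p hp⟩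

/-- **(loc2)**: `k ≥ 3`. -/
theorem loc2 (h : LnV S V Q n L W Z C A) (h3 : ∀ l m : ι, ∃ r, r ≠ l ∧ r ≠ m) :
    ∀ l m : ι, l ≠ m → ∃ E : Subgroup G, IsElementaryAbelian 2 E ∧ E ≤ (S : Subgroup G) ∧
      (∀ x ∈ Z l, ∀ y ∈ Z m, x ≠ 1 → y ≠ 1 → x * y ∈ E) ∧
      ∀ g : G, (∀ p, p ≠ l → p ≠ m → ∀ x ∈ Z p, g * x = x * g) → g ∈ normalizer (E : Set G) := by
  intro l m _
  obtain ⟨r, hl, hm⟩ := h3 l m
  obtain ⟨E, h1, h2, h4, h5⟩ := loc2' h hl hm
  exact ⟨E, h1, h2.trans (lb S n).BS, fun x hx y hy _ _ =>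
    mul_mem (h4 (h.fr.Z_le l hx)) (h4 (h.fr.Z_le m hy)), h5⟩

/-! ### Local subgroups -/

/-- `B_j = C_S(Ω₁Z(lev S j)) ≤ B` -/
theorem BL_le {j : ℕ} (hj : j ≤ n) :
    (S : Subgroup G) ⊓ centralizer (zc (lev (S : Subgroup G) j) : Set G) ≤ BL (S : Subgroup G) n :=
  inf_le_inf_left _ (centralizer_le ((lev_isLev (S : Subgroup G) j).zc_le_zc (lev_mono _ (by omega : j ≤ n + 1))
    (lev_le _ (n + 1))))

/-- **(fact)**: a local `H` is generated by `N_H(Ω₁Z(lev S j))` and `C_H(Ω₁Z(S))`. -/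
theorem fact_zc (S : Sylow 2 G) {H : Subgroup G} (hH : IsLoc (S : Subgroup G) H) {n j : ℕ} (hj : j ≤ n)
    (hall : ∀ P, IsParS (S : Subgroup G) P → lev (S : Subgroup G) n ≤ o2 P) :
    H ≤ (H ⊓ normalizer (zc (lev (S : Subgroup G) j) : Set G)) ⊔
      (H ⊓ centralizer (zc (S : Subgroup G) : Set G)) := by
  have hlv := lev_isLev (S : Subgroup G) j
  refine hH.le_of_forall S ?_ fun Y hY hYH => ?_
  · refine le_trans (le_inf inf_le_left fun g hg => ?_) le_sup_left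
    exact NO3S.Level.normalizer_le_zc _ (hlv.norm _ hlv.le le_rfl hg.2)
  · by_cases hZ : IsParS (S : Subgroup G) Y
    · refine le_trans (le_inf hYH ?_) le_sup_left
      exact (hlv.le_norm_of_o2 ((lev_mono _ hj).trans (hall Y hZ)) (hY.isLoc.o2_le S)).trans
        (NO3S.Level.normalizer_le_zc _)
    · exact le_trans (le_inf hYH (FrameNOFF.par_le_CZ S hY hZ)) le_sup_right

/-- **(fact)**, for every `x ∈ Ω₁Z(S)`. -/
theorem fact' (S : Sylow 2 G) {H : Subgroup G} (hH : IsLoc (S : Subgroup G) H) {n j : ℕ} (hj : j ≤ n)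
    (hall : ∀ P, IsParS (S : Subgroup G) P → lev (S : Subgroup G) n ≤ o2 P) {x : G}
    (hx : x ∈ zc (S : Subgroup G)) :
    H ≤ (H ⊓ normalizer (zc (lev (S : Subgroup G) j) : Set G)) ⊔ (H ⊓ centralizer ({x} : Set G)) :=
  (fact_zc S hH hj hall).trans (sup_le_sup_left (inf_le_inf_left _
    (centralizer_le (Set.singleton_subset_iff.2 hx))) _)

/-- `S ≤ H ≤ N_G(U)`, `U ≠ 1` a 2-group: `H` is local. -/
theorem isLoc_of (S : Sylow 2 G) {H U : Subgroup G} (hS : (S : Subgroup G) ≤ H) (hU1 : U ≠ ⊥) (hU : IsPGroup 2 U)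
    (hn : H ≤ normalizer (U : Set G)) : IsLoc (S : Subgroup G) H := by
  have : Fact (Nat.Prime 2) := ⟨Nat.prime_two⟩
  refine ⟨hS, fun e => hU1 ?_⟩
  have h1 : IsPGroup 2 (((S : Subgroup G) ⊔ U : Subgroup G)) := IsPGroup.to_sup_of_normal_right' S.isPGroup' hU
    (hS.trans hn)
  have h2 : U ≤ (S : Subgroup G) := by
    have h3 := S.is_maximal' h1 le_sup_left
    rw [← h3]
    exact le_sup_right
  have h4 : U ≤ o2 H := le_o2 hU (h2.trans hS) hn
  rw [e] at h4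
  exact le_bot_iff.1 h4

/-- **(fact)**, for every `x ∈ Ω₁Z(S)`, `H ≥ S` in the normaliser of a 2-group `U ≠ 1`. -/
theorem fact (S : Sylow 2 G) {n : ℕ} (hall : ∀ P, IsParS (S : Subgroup G) P → lev (S : Subgroup G) n ≤ o2 P) :
    ∀ x ∈ zc (S : Subgroup G), ∀ H : Subgroup G, (S : Subgroup G) ≤ H →
      (∃ U : Subgroup G, U ≠ ⊥ ∧ IsPGroup 2 U ∧ H ≤ normalizer (U : Set G)) → ∀ j ≤ n,
        H ≤ (H ⊓ normalizer (zc (lev (S : Subgroup G) j) : Set G)) ⊔ (H ⊓ centralizer ({x} : Set G)) := by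
  intro x hx H hH hU j hj
  obtain ⟨U, hU1, hU2, hU3⟩ := hU
  exact fact' S (isLoc_of S hH hU1 hU2 hU3) hj hall hx

/-- **(fact)** for the element of full support -/
theorem fact_full (h : LnV S V Q n L W Z C A)
    (hall : ∀ P, IsParS (S : Subgroup G) P → lev (S : Subgroup G) n ≤ o2 P) :
    ∃ z ∈ ZL (S : Subgroup G) n, Full C z ∧ z ∈ zc (S : Subgroup G) ∧
      (∀ s ∈ normalizer (BL (S : Subgroup G) n : Set G), s * z = z * s) ∧
      ∀ H : Subgroup G, (S : Subgroup G) ≤ H →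
        (∃ U : Subgroup G, U ≠ ⊥ ∧ IsPGroup 2 U ∧ H ≤ normalizer (U : Set G)) → ∀ j ≤ n,
          H ≤ (H ⊓ normalizer (zc (lev (S : Subgroup G) j) : Set G)) ⊔ (H ⊓ centralizer ({z} : Set G)) := by
  obtain ⟨z, hz, hf, hzS, hN⟩ := exists_z h
  exact ⟨z, hz, hf, hzS, hN, fact S hall z hzS⟩

end Cfsg.Agent.Omega.OM.SwapV.TorusV.LocL
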