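import Cfsg.Agent.Omega.OM.SwapV.Torus.InstV
import Cfsg.Agent.Omega.OM.SwapV.Torus.LocV

/-!
# TORUS over an abstract module `V` (box R): the instance of `LocV` (662) from `LocL` (422), and `TK` from it.
-/

set_option autoImplicit false

namespace Cfsg.Agent.Omega.OM.SwapV.TorusV

open Subgroup Cfsg Cfsg.Agent.ZN.ChoiceBase Cfsg.Agent.ZN.ChoiceSit
open Cfsg.Agent.ZN (zc o2)
open Cfsg.Agent.Omega.MinPar (IsParS)
open Cfsg.Agent.Omega.OM.SwapL (ZL BL lb)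
open Cfsg.Agent.Omega.OM.SwapV.Lv (LnV)
open Cfsg.Agent.Omega.NO3S.Level (lev)
open Cfsg.Agent.Omega.NOThreeL.RTree (RB)
open Cfsg.Agent.Omega.OM.Lev.Low.TorusV (TK)
open Cfsg.Agent.Omega.OM.Lev.Low.TorusK (stM stY)

universe u

variable {G : Type u} [Group G] [Finite G] {ι : Type} [Finite ι] {S : Sylow 2 G} {V Q : Subgroup G} {n : ℕ}
  {L W Z C A : ι → Subgroup G}

/-- The local inputs. -/
theorem locV_of (h : LnV S V Q n L W Z C A) (h3 : ∀ l m : ι, ∃ r, r ≠ l ∧ r ≠ m) (j : ℕ) :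
    LocV (BL (S : Subgroup G) n) (ZL (S : Subgroup G) n) (LevB.BL (S : Subgroup G) j)
      (zc (lev (S : Subgroup G) j)) W Z C where
  wt := LocL.wt h
  cjC := fun _ hg _ _ e => LocL.C_cj h hg e
  syl := LocL.syl h
  loc1 := LocL.loc1 h fun l => by
    obtain ⟨r, hr, -⟩ := h3 l l
    exact ⟨r, hr⟩
  loc2 := fun l m hlm => by
    obtain ⟨E, h1, h2, h4, h5⟩ := LocL.loc2 h h3 l m hlm
    exact ⟨E, h1, fun e he hc => mem_inf.2 ⟨h2 he, mem_centralizer_iff.2 fun x hx => (hc x hx).symm⟩, h4, h5⟩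

/-- **The instance of `TK`**, local inputs discharged. -/
theorem tk_of' (R : RB S) (h : LnV S V Q n L W Z C A) (h3 : ∀ l m : ι, ∃ r, r ≠ l ∧ r ≠ m)
    (hall : ∀ P : Subgroup G, IsParS (S : Subgroup G) P → lev (S : Subgroup G) n ≤ o2 P)
    (tr : ∀ i j, ∃ g ∈ MB (S : Subgroup G) n, cj g (W i) = W j) {j : ℕ} (hj : j ≤ n) {z : G}
    (hz : z ∈ ZL (S : Subgroup G) n) (hzC : ∀ i, z ∉ C i) :
    TK (MB (S : Subgroup G) n) (BL (S : Subgroup G) n) Q V (zc (lev (S : Subgroup G) n))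
      (ZL (S : Subgroup G) n) (LevB.BL (S : Subgroup G) j) (zc (lev (S : Subgroup G) j)) (stM (S : Subgroup G) j)
      (stY (S : Subgroup G) j) L W Z C A z :=
  tk_of R h hall tr hj hz hzC (locV_of h h3 j)

end Cfsg.Agent.Omega.OM.SwapV.TorusV
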