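import Cfsg.Agent.Omega.OM.SwapV.Torus.NFour
import Cfsg.Agent.Omega.OM.Lev.Low.TorusK.Theta
import Cfsg.Agent.Omega.OM.Lev.Low.TorusK.SigN4

/-!
# TORUS over an abstract module (box R): (theta) (the proofs of `TorusK/Theta.lean`)
-/

set_option autoImplicit false
set_option linter.unusedSectionVars false

namespace Cfsg.Agent.Omega.OM.Lev.Low.TorusV

open Subgroup Cfsg Cfsg.Agent.ZN Cfsg.Agent.ZN.ChoiceBase Cfsg.Agent.Omega.OM.Lev.Low.TorusK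
open Cfsg.Agent.PLocal.ThompsonJ (isElementaryAbelian_iff)
open Cfsg.Agent.Omega.SQ1.Bau (mem_sup_comm card_sup_comm elem_comm elem_sq)
open Cfsg.Agent.Omega.NO3S.Level.Claim (Fm Bl cB mem_cB cB_le)
open Cfsg.Agent.Omega.NO3S.ThmB (Fr DM)
open Cfsg.Agent.Omega.OM.Lev.Uni (FrL)
open Cfsg.Agent.Omega.OM.Lev.Low.TorusK.PBC
open scoped commutatorElement

universe u

variable {G : Type u} [Group G]

/-- The data of (theta). -/
structure TD {ι : Type} (S B Q V Xn ZJ B0 X M0 Y0 : Subgroup G) (L W Z C A : ι → Subgroup G) (z : G)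
    (K N N1 N0 : ι → Subgroup G) : Prop where
  tk : TK S B Q V Xn ZJ B0 X M0 Y0 L W Z C A z
  bk : ∀ i, BK B B0 X M0 Y0 W i (K i) (N i) (N1 i) (N0 i)
  loc : ∀ i, K i ≤ normalizer ((X ⊔ ⨆ j, ⁅N j, K j⁆ : Subgroup G) : Set G)
  comm : ∀ i j, i ≠ j → ∀ u ∈ (⁅N i, K i⁆ : Subgroup G), ∀ v ∈ (⁅N j, K j⁆ : Subgroup G), u * v = v * u

namespace TD

variable {ι : Type} {S B Q V Xn ZJ B0 X M0 Y0 : Subgroup G} {L W Z C A : ι → Subgroup G} {z : G}
  {K N N1 N0 : ι → Subgroup G} (h : TD S B Q V Xn ZJ B0 X M0 Y0 L W Z C A z K N N1 N0)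

include h

theorem FW (i : ι) : ⁅N i, K i⁆ ≤ (X ⊔ ⨆ j, ⁅N j, K j⁆ : Subgroup G) :=
  le_trans (le_iSup (fun j => ⁅N j, K j⁆) i) le_sup_right

theorem WB0 [Finite G] : (X ⊔ ⨆ j, ⁅N j, K j⁆ : Subgroup G) ≤ B0 :=
  sup_le h.tk.XB0 (iSup_le fun i => (h.bk i).VB0)

theorem WY0 [Finite G] : (X ⊔ ⨆ j, ⁅N j, K j⁆ : Subgroup G) ≤ Y0 :=
  sup_le h.tk.XY (iSup_le fun i => (h.bk i).VY0)

theorem ab [Finite G] {x y : G} (hx : x ∈ (X ⊔ ⨆ j, ⁅N j, K j⁆ : Subgroup G))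
    (hy : y ∈ (X ⊔ ⨆ j, ⁅N j, K j⁆ : Subgroup G)) : x * y = y * x := by
  have c1 : ∀ i, (⁅N i, K i⁆ : Subgroup G) ≤ centralizer (X : Set G) := fun i v hv =>
    mem_centralizer_iff.2 fun x hx => (h.tk.cX ((h.bk i).VB0 hv) hx).symm
  have c2 : X ≤ centralizer (X : Set G) := fun v hv => mem_centralizer_iff.2 fun x hx => h.tk.Xc hx hv
  have c3 : ∀ i, (X ⊔ ⨆ j, ⁅N j, K j⁆ : Subgroup G) ≤ centralizer ((⁅N i, K i⁆ : Subgroup G) : Set G) := by
    intro i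
    refine sup_le (le_centralizer_iff.1 (c1 i)) (iSup_le fun j => ?_)
    by_cases e : i = j
    · subst e
      exact fun v hv => mem_centralizer_iff.2 fun x hx =>
        (h.bk i).pb.comm ((h.bk i).pb.VN hx) ((h.bk i).pb.VN hv)
    · exact fun v hv => mem_centralizer_iff.2 fun x hx => h.comm i j e x hx v hv
  have c4 : (X ⊔ ⨆ j, ⁅N j, K j⁆ : Subgroup G) ≤
      centralizer ((X ⊔ ⨆ j, ⁅N j, K j⁆ : Subgroup G) : Set G) := by
    rw [le_centralizer_iff]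
    refine sup_le ?_ (iSup_le fun i => le_centralizer_iff.1 (c3 i))
    exact le_centralizer_iff.1 (sup_le c2 (iSup_le c1))
  exact (mem_centralizer_iff.1 (c4 hx) y hy).symm

theorem el [Finite G] : IsElementaryAbelian 2 (X ⊔ ⨆ j, ⁅N j, K j⁆ : Subgroup G) := by
  refine isElementaryAbelian_iff.2 ⟨fun x hx y hy => h.ab hx hy, ?_⟩
  let T : Subgroup G :=
    { carrier := {x | x ∈ (X ⊔ ⨆ j, ⁅N j, K j⁆ : Subgroup G) ∧ x ^ 2 = 1}
      one_mem' := ⟨one_mem _, one_pow 2⟩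
      mul_mem' := by
        rintro a b ⟨ha, ha'⟩ ⟨hb, hb'⟩
        have hc : Commute a b := h.ab ha hb
        exact ⟨mul_mem ha hb, by rw [hc.mul_pow, ha', hb', one_mul]⟩
      inv_mem' := by
        rintro a ⟨ha, ha'⟩
        exact ⟨inv_mem ha, by rw [inv_pow, ha', inv_one]⟩ }
  have hT : (X ⊔ ⨆ j, ⁅N j, K j⁆ : Subgroup G) ≤ T := by
    refine sup_le (fun x hx => ⟨mem_sup_left hx, elem_sq h.tk.elX x hx⟩) (iSup_le fun i x hx => ⟨h.FW i hx, ?_⟩)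
    exact elem_sq (h.bk i).pb.el x ((h.bk i).pb.VN hx)
  exact fun x hx => (hT hx).2

/-- `S` normalises `W*`. -/
theorem S_norm [Finite G] [Finite ι] : S ≤ normalizer ((X ⊔ ⨆ j, ⁅N j, K j⁆ : Subgroup G) : Set G) := by
  intro s hs
  refine mem_normalizer_of_cj_le ?_
  rw [cj_le_iff]
  refine sup_le ?_ (iSup_le fun i => ?_)
  · rw [← cj_le_iff, cj_eq_of_mem_normalizer (h.tk.SX hs)]
    exact le_sup_left
  · rw [← cj_le_iff]
    obtain ⟨j, hj, -, -⟩ := h.tk.perm s hs i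
    have k' := (h.bk i).cj h.tk hs hj
    have h1 := (uni' h.tk (h.bk j) k').1
    rw [comm_cjj] at h1
    exact h1.trans (sup_le (h.FW j) le_sup_left)

theorem W_bot (i l : ι) (hil : l ≠ i) : W i ⊓ W l = ⊥ := by
  rw [eq_bot_iff, ← h.tk.fr.dir i]
  exact inf_le_inf_left _ (h.tk.fr.WjC i l (Ne.symm hil))

theorem norm_X {g : G} (hgB : g ∈ normalizer (B0 : Set G)) {x : G} (hx : x ∈ X) : g * x * g⁻¹ ∈ X := by
  have h3 : ChoiceBase.cj g X = X := by rw [← h.tk.zB, ← zc_cj', cj_eq_of_mem_normalizer hgB]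
  rw [← h3]
  exact cj_mem hx

theorem norm_W [Finite G] [Finite ι] {i : ι} {g : G} (hg : g ∈ K i) (hgB : g ∈ normalizer (B0 : Set G)) {x : G}
    (hx : x ∈ W i) : g * x * g⁻¹ ∈ W i := by
  rw [← (h.bk i).inf_X h.tk]
  exact ⟨(mem_normalizer_iff.1 ((h.bk i).pb.LV hg) x).1 ((h.bk i).W_le h.tk hx), h.norm_X hgB (h.tk.WX i hx)⟩

/-- `[F l, B₀] ≤ W l` -/
theorem quad [Finite G] [Finite ι] (l : ι) {b : G} (hb : b ∈ B0) {v : G} (hv : v ∈ (⁅N l, K l⁆ : Subgroup G)) :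
    b * v * b⁻¹ * v⁻¹ ∈ W l := ((h.bk l).n4 h.tk).quad b hb v hv

end TD

/-- One block `i` with a small offender `D0` which moves `[N i, K i]`. -/
structure TD1 {ι : Type} (S B Q V Xn ZJ B0 X M0 Y0 : Subgroup G) (L W Z C A : ι → Subgroup G) (z : G)
    (K N N1 N0 : ι → Subgroup G) (WW H T : Subgroup G) (AA : Set (Subgroup G)) (i : ι) (D0 : Subgroup G) : Prop where
  td : TD S B Q V Xn ZJ B0 X M0 Y0 L W Z C A z K N N1 N0
  eW : WW = X ⊔ ⨆ j, ⁅N j, K j⁆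
  fm : Fm T WW H B0 X AA
  bl : Bl T WW H B0 X AA (K i) ⁅N i, K i⁆
  fr : Fr (⁅N i, K i⁆ : Subgroup G) (DM WW AA) D0

namespace TD1

variable {ι : Type} {S B Q V Xn ZJ B0 X M0 Y0 : Subgroup G} {L W Z C A : ι → Subgroup G} {z : G}
  {K N N1 N0 : ι → Subgroup G} {WW H T : Subgroup G} {AA : Set (Subgroup G)} {i : ι} {D0 : Subgroup G}
  (h : TD1 S B Q V Xn ZJ B0 X M0 Y0 L W Z C A z K N N1 N0 WW H T AA i D0)

include h

theorem D0B : D0 ≤ B0 := h.fm.le D0 h.fr.1.1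

/-- `[WW, D₀] ≤ W i` -/
theorem comm_W [Finite G] [Finite ι] {u a : G} (hu : u ∈ WW) (ha : a ∈ D0) : a * u * a⁻¹ * u⁻¹ ∈ W i := by
  rw [← (h.td.bk i).inf_X h.td.tk]
  exact comm_U h.fm h.bl h.fr hu ha

/-- `R = ⟨D₀^(K i)⟩` -/
def Rg (K : ι → Subgroup G) (i : ι) (D0 : Subgroup G) : Subgroup G := ⨆ x : K i, ChoiceBase.cj (x : G) D0

omit h in
theorem le_Rg {x : G} (hx : x ∈ K i) : ChoiceBase.cj x D0 ≤ Rg K i D0 :=
  le_iSup (fun x : K i => ChoiceBase.cj (x : G) D0) ⟨x, hx⟩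

omit h in
theorem D0_le_Rg : D0 ≤ Rg K i D0 := by
  have h1 := le_Rg (K := K) (i := i) (D0 := D0) (one_mem (K i))
  rwa [cj_one] at h1

theorem Rg_le [Finite G] : Rg K i D0 ≤ K i := by
  refine iSup_le fun x => ?_
  have h1 := cj_mono (x : G) (h.D0B.trans h.bl.BL)
  rwa [cj_eq_of_mem_normalizer (le_normalizer x.2)] at h1

omit h in
theorem Rg_norm [Finite G] : K i ≤ normalizer (Rg K i D0 : Set G) := by
  have key : ∀ g ∈ K i, ChoiceBase.cj g (Rg K i D0) ≤ Rg K i D0 := by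
    intro g hg
    rw [cj_le_iff]
    refine iSup_le fun x => ?_
    rw [← cj_le_iff, cj_cj]
    exact le_Rg (mul_mem hg x.2)
  exact fun g hg => mem_normalizer_of_cj_le (key g hg)

theorem K_le [Finite G] : K i ≤ Rg K i D0 ⊔ B0 :=
  le_of h.fm h.bl h.fr le_sup_right fun _ hx => (le_Rg hx).trans le_sup_left

/-- `[WW, R] ≤ F i` -/
theorem comm_R [Finite G] {g : G} (hg : g ∈ Rg K i D0) {u : G} (hu : u ∈ WW) :
    g * u * g⁻¹ * u⁻¹ ∈ (⁅N i, K i⁆ : Subgroup G) := by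
  let T : Subgroup G :=
    { carrier := {g | g ∈ K i ∧ ∀ u ∈ WW, g * u * g⁻¹ * u⁻¹ ∈ (⁅N i, K i⁆ : Subgroup G)}
      one_mem' := ⟨one_mem _, fun u _ => by simp⟩
      mul_mem' := by
        rintro a b ⟨ha, ha'⟩ ⟨hb, hb'⟩
        refine ⟨mul_mem ha hb, fun u hu => ?_⟩
        have hbu : b * u * b⁻¹ ∈ WW := (mem_normalizer_iff.1 (h.bl.LY hb) u).1 hu
        have e : a * b * u * (a * b)⁻¹ * u⁻¹ = (a * (b * u * b⁻¹) * a⁻¹ * (b * u * b⁻¹)⁻¹) * (b * u * b⁻¹ * u⁻¹) := by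
          group
        rw [e]
        exact mul_mem (ha' _ hbu) (hb' u hu)
      inv_mem' := by
        rintro a ⟨ha, ha'⟩
        refine ⟨inv_mem ha, fun u hu => ?_⟩
        have hau : a⁻¹ * u * a ∈ WW := by
          have := (mem_normalizer_iff.1 (h.bl.LY (inv_mem ha)) u).1 hu
          rwa [inv_inv] at this
        have h1 := inv_mem (ha' _ hau)
        have e : (a * (a⁻¹ * u * a) * a⁻¹ * (a⁻¹ * u * a)⁻¹)⁻¹ = a⁻¹ * u * a⁻¹⁻¹ * u⁻¹ := by group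
        rwa [e] at h1 }
  have hT : Rg K i D0 ≤ T := by
    refine iSup_le fun x => ?_
    rintro _ ⟨a, ha, rfl⟩
    refine ⟨mul_mem (mul_mem x.2 (h.bl.BL (h.D0B ha))) (inv_mem x.2), fun u hu => ?_⟩
    have hu' : (x : G)⁻¹ * u * x ∈ WW := by
      have := (mem_normalizer_iff.1 (h.bl.LY (inv_mem x.2)) u).1 hu
      rwa [inv_inv] at this
    have h1 := (comm_U h.fm h.bl h.fr hu' ha).1
    have h2 := (mem_normalizer_iff.1 (h.bl.LV x.2) _).1 h1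
    have e : (x : G) * (a * ((x : G)⁻¹ * u * x) * a⁻¹ * ((x : G)⁻¹ * u * x)⁻¹) * (x : G)⁻¹ =
        x * a * (x : G)⁻¹ * u * (x * a * (x : G)⁻¹)⁻¹ * u⁻¹ := by group
    rw [e] at h2
    exact h2
  exact (hT hg).2 u hu

/-- an element of `C_B₀(F i) ∩ R` centralises `WW` -/
theorem cen_R [Finite G] [Finite ι] {p : G} (hp : p ∈ cB B0 ⁅N i, K i⁆) (hpR : p ∈ Rg K i D0) :
    p ∈ centralizer (WW : Set G) := by
  have hpB : p ∈ B0 := cB_le _ _ hp
  have h1 : WW ≤ centralizer ({p} : Set G) := by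
    rw [h.eW]
    refine sup_le ?_ (iSup_le fun l => ?_)
    · intro x hx
      exact mem_centralizer_singleton_iff.2 (h.td.tk.cX hpB hx).symm
    · intro u hu
      rw [mem_centralizer_singleton_iff]
      by_cases hl : l = i
      · subst hl
        exact ((mem_cB.1 hp).2 u hu).symm
      · have hu' : u ∈ WW := by rw [h.eW]; exact h.td.FW l hu
        have h2 := h.comm_R hpR hu'
        have h3 := h.td.quad l hpB hu
        have h4 : p * u * p⁻¹ * u⁻¹ ∈ W i ⊓ W l := by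
          refine mem_inf.2 ⟨?_, h3⟩
          rw [← (h.td.bk i).inf_X h.td.tk]
          exact mem_inf.2 ⟨h2, h.td.tk.WX l h3⟩
        rw [h.td.W_bot i l hl, mem_bot, mul_inv_eq_one, mul_inv_eq_iff_eq_mul] at h4
        exact h4.symm
  rw [mem_centralizer_iff]
  intro u hu
  exact mem_centralizer_singleton_iff.1 (h1 hu)

/-- every element of `WW` is `v n`, `v ∈ F i`, `n` centralised by `D₀` and `D₀^x`. -/
theorem split [Finite G] [Finite ι] {x : G} (hx : x ∈ K i) (hne : ChoiceBase.cj x (W i) ≠ W i) {c : G} (hc : c ∈ WW) :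
    ∃ v ∈ (⁅N i, K i⁆ : Subgroup G), ∃ n ∈ WW, (∀ a ∈ D0, a * n = n * a) ∧
      (∀ a ∈ D0, x * a * x⁻¹ * n = n * (x * a * x⁻¹)) ∧ c = v * n := by
  have n4 := (h.td.bk i).n4 h.td.tk
  have m4 := (SigN4.toSig n4).toM4
  obtain ⟨v1, hv1, c1, hc1, hA1, rfl⟩ := full h.fm h.bl h.fr hc
  have hc1' : x⁻¹ * c1 * x ∈ WW := by
    have := (mem_normalizer_iff.1 (h.bl.LY (inv_mem hx)) c1).1 hc1
    rwa [inv_inv] at this
  obtain ⟨v2, hv2, c2, hc2, hA2, e2⟩ := full h.fm h.bl h.fr hc1'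
  have hv2' : x * v2 * x⁻¹ ∈ (⁅N i, K i⁆ : Subgroup G) := (mem_normalizer_iff.1 (h.bl.LV hx) v2).1 hv2
  obtain ⟨p, hp, q, hq, e3⟩ := m4.compl hx hne hv2'
  obtain ⟨w, hw, rfl⟩ := hq
  have hpV : p ∈ (⁅N i, K i⁆ : Subgroup G) := n4.V1V hp
  have e4 : c1 = p * (x * (w * c2) * x⁻¹) := by
    have e5 : c1 = x * (x⁻¹ * c1 * x) * x⁻¹ := by group
    rw [e5, e2]
    calc x * (v2 * c2) * x⁻¹ = (x * v2 * x⁻¹) * (x * c2 * x⁻¹) := by group
      _ = p * (x * w * x⁻¹) * (x * c2 * x⁻¹) := by rw [e3]; rfl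
      _ = _ := by group
  have hwc : w * c2 ∈ WW := mul_mem (h.bl.VY (n4.V1V hw)) hc2
  refine ⟨v1 * p, mul_mem hv1 hpV, x * (w * c2) * x⁻¹, (mem_normalizer_iff.1 (h.bl.LY hx) _).1 hwc, ?_, ?_, ?_⟩
  · intro a ha
    have h1 : x * (w * c2) * x⁻¹ = p⁻¹ * c1 := by rw [e4]; group
    rw [h1]
    have c3 : Commute a p := n4.c1 a (h.D0B ha) p hp
    have c4 : Commute a c1 := hA1 a ha
    exact (c3.inv_right.mul_right c4).eq
  · intro a ha
    have c3 : Commute a w := n4.c1 a (h.D0B ha) w hw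
    have c4 : Commute a c2 := hA2 a ha
    have c5 := (c3.mul_right c4).eq
    calc x * a * x⁻¹ * (x * (w * c2) * x⁻¹) = x * (a * (w * c2)) * x⁻¹ := by group
      _ = x * (w * c2 * a) * x⁻¹ := by rw [c5]
      _ = _ := by group
  · rw [mul_assoc, ← e4]

/-- `R ≤ D₀ ⊔ D₀^x ⊔ C_R(WW)` -/
theorem R_le [Finite G] [Finite ι] {x : G} (hx : x ∈ K i) (hm : SQ1.Bau.Mv (W i) x) :
    Rg K i D0 ≤ D0 ⊔ ChoiceBase.cj x D0 ⊔ (Rg K i D0 ⊓ centralizer (WW : Set G)) := by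
  have n4 := (h.td.bk i).n4 h.td.tk
  set T : Subgroup G := D0 ⊔ ChoiceBase.cj x D0 ⊔ (Rg K i D0 ⊓ centralizer (WW : Set G)) with hT
  have hC : ∀ g ∈ K i, ∀ y ∈ Rg K i D0 ⊓ centralizer (WW : Set G), g * y * g⁻¹ ∈ Rg K i D0 ⊓ centralizer (WW : Set G) := by
    rintro g hg y ⟨hy1, hy2⟩
    refine ⟨(mem_normalizer_iff.1 (Rg_norm hg) y).1 hy1, mem_centralizer_iff.2 fun u hu => ?_⟩
    have hu' : g⁻¹ * u * g ∈ WW := by
      have := (mem_normalizer_iff.1 (h.bl.LY (inv_mem hg)) u).1 hu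
      rwa [inv_inv] at this
    have h1 := mem_centralizer_iff.1 hy2 _ hu'
    calc u * (g * y * g⁻¹) = g * ((g⁻¹ * u * g) * y) * g⁻¹ := by group
      _ = g * (y * (g⁻¹ * u * g)) * g⁻¹ := by rw [h1]
      _ = _ := by group
  -- `[D₀, p] ≤ C_R(WW)`
  have hDp : ∀ p ∈ cB B0 (⁅N i, K i⁆ : Subgroup G), ∀ a ∈ D0, p * a * p⁻¹ * a⁻¹ ∈
      Rg K i D0 ⊓ centralizer (WW : Set G) := by
    intro p hp a ha
    have hpK : p ∈ K i := h.bl.BL (cB_le _ _ hp)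
    have haK : a ∈ K i := h.bl.BL (h.D0B ha)
    have h1 : p * a * p⁻¹ * a⁻¹ ∈ Rg K i D0 :=
      mul_mem ((mem_normalizer_iff.1 (Rg_norm hpK) a).1 (D0_le_Rg ha)) (inv_mem (D0_le_Rg ha))
    refine mem_inf.2 ⟨h1, h.cen_R ?_ h1⟩
    have h2 := (mem_normalizer_iff.1 (h.bl.LP haK) _).1 (inv_mem hp)
    have h3 := mul_mem hp h2
    have e : p * (a * p⁻¹ * a⁻¹) = p * a * p⁻¹ * a⁻¹ := by group
    rwa [e] at h3
  have hpT : ∀ p ∈ cB B0 (⁅N i, K i⁆ : Subgroup G), p ∈ normalizer (T : Set G) := by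
    intro p hp
    have hpK : p ∈ K i := h.bl.BL (cB_le _ _ hp)
    refine mem_normalizer_of_cj_le ?_
    rw [cj_le_iff, hT]
    refine sup_le (sup_le ?_ ?_) ?_
    · rw [← cj_le_iff]
      rintro _ ⟨a, ha, rfl⟩
      change p * a * p⁻¹ ∈ _
      have e : p * a * p⁻¹ = p * a * p⁻¹ * a⁻¹ * a := by group
      rw [e]
      exact mul_mem (mem_sup_right (hDp p hp a ha)) (mem_sup_left (mem_sup_left ha))
    · rw [← cj_le_iff]
      rintro _ ⟨_, ⟨a, ha, rfl⟩, rfl⟩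
      change p * (x * a * x⁻¹) * p⁻¹ ∈ _
      have hp' : x⁻¹ * p * x ∈ cB B0 (⁅N i, K i⁆ : Subgroup G) := by
        have := (mem_normalizer_iff.1 (h.bl.LP (inv_mem hx)) p).1 hp
        rwa [inv_inv] at this
      have h1 := hC x hx _ (hDp _ hp' a ha)
      have e : p * (x * a * x⁻¹) * p⁻¹ =
          x * (x⁻¹ * p * x * a * (x⁻¹ * p * x)⁻¹ * a⁻¹) * x⁻¹ * (x * a * x⁻¹) := by group
      rw [e]
      exact mul_mem (mem_sup_right h1) (mem_sup_left (mem_sup_right (cj_mem ha)))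
    · rw [← cj_le_iff]
      rintro _ ⟨y, hy, rfl⟩
      exact mem_sup_right (hC p hpK y hy)
  have hKT : K i ≤ normalizer (T : Set G) := by
    refine n4.gen x hx hm _ ?_ ?_
    · intro b hb
      obtain ⟨a, ha, p, hp, rfl⟩ := dec h.fm h.bl h.fr hb
      exact mul_mem (le_normalizer (mem_sup_left (mem_sup_left ha))) (hpT p hp)
    · intro b hb
      obtain ⟨a, ha, p, hp, rfl⟩ := dec h.fm h.bl h.fr hb
      have e : x * (a * p) * x⁻¹ = (x * a * x⁻¹) * (x * p * x⁻¹) := by group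
      rw [e]
      refine mul_mem (le_normalizer (mem_sup_left (mem_sup_right (cj_mem ha)))) (hpT _ ?_)
      exact (mem_normalizer_iff.1 (h.bl.LP hx) p).1 hp
  refine iSup_le fun g => ?_
  rintro _ ⟨a, ha, rfl⟩
  exact (mem_normalizer_iff.1 (hKT g.2) a).1 (mem_sup_left (mem_sup_left ha))

/-- `WW = F i C_WW(R)` -/
theorem split' [Finite G] [Finite ι] {c : G} (hc : c ∈ WW) :
    ∃ v ∈ (⁅N i, K i⁆ : Subgroup G), ∃ n ∈ WW, (∀ r ∈ Rg K i D0, r * n = n * r) ∧ c = v * n := by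
  have n4 := (h.td.bk i).n4 h.td.tk
  obtain ⟨x, hx, hm⟩ := n4.mv
  have hne : ChoiceBase.cj x (W i) ≠ W i := by
    obtain ⟨v, hv, hv'⟩ := hm
    intro e
    apply hv'
    have : x * v * x⁻¹ ∈ ChoiceBase.cj x (W i) := cj_mem hv
    rwa [e] at this
  obtain ⟨v, hv, n, hn, h1, h2, e⟩ := h.split hx hne hc
  refine ⟨v, hv, n, hn, fun r hr => ?_, e⟩
  have h3 : D0 ⊔ ChoiceBase.cj x D0 ⊔ (Rg K i D0 ⊓ centralizer (WW : Set G)) ≤ centralizer ({n} : Set G) := by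
    refine sup_le (sup_le (fun a ha => mem_centralizer_singleton_iff.2 (h1 a ha)) ?_) ?_
    · intro y hy
      obtain ⟨a, ha, rfl⟩ := ex_cj hy
      exact mem_centralizer_singleton_iff.2 (h2 a ha)
    · rintro y ⟨-, hy⟩
      exact mem_centralizer_singleton_iff.2 (mem_centralizer_iff.1 hy n hn).symm
  exact mem_centralizer_singleton_iff.1 (h3 (h.R_le hx hm hr))

/-- a torus element in `R` -/
theorem tor' [Finite G] [Finite ι] : ∃ t ∈ Rg K i D0, t ∈ normalizer (B0 : Set G) ∧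
    ∀ w ∈ W i, t * w * t⁻¹ = w → w = 1 := by
  obtain ⟨g, hg, hgB, -, hf⟩ := (h.td.bk i).tor
  have hB : B0 ≤ normalizer (Rg K i D0 : Set G) := h.bl.BL.trans Rg_norm
  obtain ⟨r, hr, b, hb, rfl⟩ := mem_sup_nrm hB (h.K_le hg)
  refine ⟨r, hr, ?_, fun w hw e => hf w hw ?_⟩
  · have h1 := mul_mem hgB (inv_mem (le_normalizer hb))
    rwa [mul_inv_cancel_right] at h1
  · have h2 := h.td.tk.cX hb (h.td.tk.WX i hw)
    calc r * b * w * (r * b)⁻¹ = r * (b * w) * b⁻¹ * r⁻¹ := by group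
      _ = r * (w * b) * b⁻¹ * r⁻¹ := by rw [h2]
      _ = r * w * r⁻¹ := by group
      _ = w := e

/-- **The shift**: `w = v n`, `w ∈ F l`, `1 ≠ v ∈ W i`, `n` centralised by `R`: impossible. -/
theorem no_v [Finite G] [Finite ι] {l : ι} (hl : l ≠ i) {w v n : G} (hw : w ∈ (⁅N l, K l⁆ : Subgroup G)) (hw1 : w ≠ 1)
    (hv : v ∈ W i) (hn : ∀ r ∈ Rg K i D0, r * n = n * r) (e : w = v * n) : v = 1 := by
  by_contra hv1
  have tk := h.td.tk
  obtain ⟨t, ht, htB, htf⟩ := h.tor'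
  have htK : t ∈ K i := h.Rg_le ht
  -- `t w t⁻¹ = u w`
  set u : G := t * v * t⁻¹ * v⁻¹ with hu
  have hvt : t * v * t⁻¹ ∈ W i := h.td.norm_W htK htB hv
  have huW : u ∈ W i := mul_mem hvt (inv_mem hv)
  have hu1 : u ≠ 1 := fun h0 => hv1 (htf v hv (mul_inv_eq_one.1 h0))
  have htw : t * w * t⁻¹ = u * w := by
    have h1 := hn t ht
    rw [e, hu]
    calc t * (v * n) * t⁻¹ = t * v * (t⁻¹ * (t * n)) * t⁻¹ := by group
      _ = t * v * (t⁻¹ * (n * t)) * t⁻¹ := by rw [h1]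
      _ = _ := by group
  -- `e w e⁻¹ = y`
  obtain ⟨y, hy, hy1⟩ := tk.exists_Z l
  have hyW : y ∈ W l := tk.ZW l hy
  obtain ⟨g, hg, hgw⟩ := transK ((h.td.bk l).n4 tk) hw hw1 hyW hy1
  have hgWi : ∀ x ∈ W i, g * x = x * g := fun x hx => (h.td.bk l).cW i (Ne.symm hl) x hx g hg
  have htWl : ∀ p, p ≠ i → ∀ x ∈ W p, t * x = x * t := fun p hp x hx => (h.td.bk i).cW p hp x hx t htK
  -- `d = t⁻¹ g t g⁻¹`
  set d : G := t⁻¹ * g * t * g⁻¹ with hd
  set κ : G := t⁻¹ * u * t with hκ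
  have htB' : t⁻¹ ∈ normalizer (B0 : Set G) := inv_mem htB
  have hκW : κ ∈ W i := by
    have h1 := h.td.norm_W (inv_mem htK) htB' huW
    rwa [inv_inv] at h1
  have hκ1 : κ ≠ 1 := fun h0 => hu1 (by
    have : u = t * κ * t⁻¹ := by rw [hκ]; group
    rw [this, h0]; group)
  have hdy : d * y * d⁻¹ = κ * y := by
    have e1 : g⁻¹ * y * g = w := by rw [← hgw]; group
    have e2 : g * (u * w) * g⁻¹ = u * y := by
      calc g * (u * w) * g⁻¹ = (g * u) * w * g⁻¹ := by group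
        _ = (u * g) * w * g⁻¹ := by rw [hgWi u huW]
        _ = u * (g * w * g⁻¹) := by group
        _ = u * y := by rw [hgw]
    have e3 : t⁻¹ * y * t = y := by rw [mul_assoc, ← htWl l hl y hyW]; group
    calc d * y * d⁻¹ = t⁻¹ * (g * (t * (g⁻¹ * y * g) * t⁻¹) * g⁻¹) * t := by rw [hd]; group
      _ = t⁻¹ * (g * (u * w) * g⁻¹) * t := by rw [e1, htw]
      _ = t⁻¹ * (u * y) * t := by rw [e2]
      _ = (t⁻¹ * u * t) * (t⁻¹ * y * t) := by group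
      _ = κ * y := by rw [e3]
  have hdc : ∀ p, p ≠ l → ∀ x ∈ W p, d * x = x * d := by
    intro p hp x hx
    have hgx : g * x = x * g := (h.td.bk l).cW p hp x hx g hg
    have h1 : g * (t * x * t⁻¹) = (t * x * t⁻¹) * g := by
      by_cases hpi : p = i
      · subst hpi
        exact hgWi _ (h.td.norm_W htK htB hx)
      · rw [htWl p hpi x hx, mul_inv_cancel_right, hgx]
    calc d * x = t⁻¹ * g * t * (g⁻¹ * (x * g)) * g⁻¹ := by rw [hd]; group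
      _ = t⁻¹ * g * t * (g⁻¹ * (g * x)) * g⁻¹ := by rw [hgx]
      _ = t⁻¹ * (g * (t * x * t⁻¹)) * t * g⁻¹ := by group
      _ = t⁻¹ * ((t * x * t⁻¹) * g) * t * g⁻¹ := by rw [h1]
      _ = x * d := by rw [hd]; group
  -- conjugate `κ` into `Z i`
  obtain ⟨yi, hyi, hyi1⟩ := tk.exists_Z i
  obtain ⟨r, hr, hrB, hrκ⟩ := ((h.td.bk i).n4 tk).tor κ hκW hκ1 yi (tk.ZW i hyi) hyi1
  set g2 : G := r * d * r⁻¹ with hg2
  have hrW : ∀ p, p ≠ i → ∀ x ∈ W p, r * x = x * r := fun p hp x hx => (h.td.bk i).cW p hp x hx r hr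
  have hg2y : g2 * y * g2⁻¹ = yi * y := by
    have e1 : r⁻¹ * y * r = y := by rw [mul_assoc, ← hrW l hl y hyW]; group
    have e2 : r * y * r⁻¹ = y := by rw [hrW l hl y hyW]; group
    calc g2 * y * g2⁻¹ = r * (d * (r⁻¹ * y * r) * d⁻¹) * r⁻¹ := by rw [hg2]; group
      _ = r * (κ * y) * r⁻¹ := by rw [e1, hdy]
      _ = (r * κ * r⁻¹) * (r * y * r⁻¹) := by group
      _ = yi * y := by rw [hrκ, e2]
  have hg2c : ∀ p, p ≠ l → ∀ x ∈ W p, g2 * x = x * g2 := by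
    intro p hp x hx
    have h1 : r⁻¹ * x * r ∈ W p := by
      by_cases hpi : p = i
      · subst hpi
        have h2 := h.td.norm_W (inv_mem hr) (inv_mem hrB) hx
        rwa [inv_inv] at h2
      · rw [mul_assoc, ← hrW p hpi x hx, inv_mul_cancel_left]
        exact hx
    have h2 := hdc p hp _ h1
    calc g2 * x = r * (d * (r⁻¹ * x * r)) * r⁻¹ := by rw [hg2]; group
      _ = r * (r⁻¹ * x * r * d) * r⁻¹ := by rw [h2]
      _ = x * g2 := by rw [hg2]; group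
  -- `z ↦ z yi`
  obtain ⟨w0, hw0, c, hc, hcJ, ez⟩ := tk.fr.split_ZJ l tk.zJ
  have hw01 : w0 ≠ 1 := fun h0 => tk.zC l (by rw [ez, h0, one_mul]; exact hc)
  have e0 : w0 = y := tk.Z_two l hw0 hy hw01 hy1
  have hcc : g2 * c = c * g2 := by
    have h1 : c ∈ centralizer ({g2} : Set G) :=
      tk.mem_of_C (l := l) (fun p hp x hx => mem_centralizer_singleton_iff.2 (hg2c p hp x (tk.ZW p hx)).symm) hcJ hc
    exact (mem_centralizer_singleton_iff.1 h1).symm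
  have hyiJ : yi ∈ ZJ := tk.fr.Z_le i hyi
  have h1 : g2 * z * g2⁻¹ = z * yi := by
    have hzc : yi * y * c = y * c * yi := by
      have c1 : Commute yi y := tk.Xc (tk.ZX i hyi) (tk.ZX l hy)
      have c2 : Commute yi c := tk.Xc (tk.ZX i hyi) (tk.ZJX hcJ)
      rw [mul_assoc]
      exact (c1.mul_right c2).eq
    rw [ez, e0]
    calc g2 * (y * c) * g2⁻¹ = (g2 * y * g2⁻¹) * ((g2 * c) * g2⁻¹) := by group
      _ = (yi * y) * ((c * g2) * g2⁻¹) := by rw [hg2y, hcc]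
      _ = yi * y * c := by group
      _ = y * c * yi := hzc
  exact hyi1 (tk.no_shift tk.zJ tk.zC hyiJ h1)

/-- **(theta) for one block.** -/
theorem cen_F [Finite G] [Finite ι] {l : ι} (hl : l ≠ i) :
    Rg K i D0 ≤ centralizer ((⁅N l, K l⁆ : Subgroup G) : Set G) := by
  have tk := h.td.tk
  have n4 := (h.td.bk i).n4 tk
  rw [le_centralizer_iff]
  intro w hw
  have hwW : w ∈ WW := by rw [h.eW]; exact h.td.FW l hw
  obtain ⟨v, hv, n, hnW, hn, e⟩ := h.split' hwW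
  -- `D₀` centralises `w`
  have hDw : ∀ a ∈ D0, a * w = w * a := by
    intro a ha
    have h1 : a * w * a⁻¹ * w⁻¹ ∈ W i ⊓ W l := ⟨h.comm_W hwW ha, h.td.quad l (h.D0B ha) hw⟩
    rwa [h.td.W_bot i l hl, mem_bot, mul_inv_eq_one, mul_inv_eq_iff_eq_mul] at h1
  have hDv : ∀ a ∈ D0, a * v = v * a := by
    intro a ha
    have ev : v = w * n⁻¹ := by rw [e]; group
    have c1 : Commute a w := hDw a ha
    have c2 : Commute a n := hn a (D0_le_Rg ha)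
    rw [ev]
    exact (c1.mul_right c2.inv_right).eq
  obtain ⟨a, ha, hna⟩ := SetLike.not_le_iff_exists.1 h.fr.2
  have hna' : ∃ v ∈ (⁅N i, K i⁆ : Subgroup G), a * v ≠ v * a := by
    by_contra hcon
    push Not at hcon
    exact hna (mem_centralizer_iff.2 fun v hv => (hcon v hv).symm)
  have hvW : v ∈ W i := n4.cent a (h.D0B ha) hna' v hv (hDv a ha)
  have hv1 : v = 1 := by
    by_contra hv1
    have hw1 : w ≠ 1 := by
      rintro rfl
      have h2 : v = n⁻¹ := eq_inv_of_mul_eq_one_left e.symm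
      obtain ⟨t, ht, -, htf⟩ := h.tor'
      refine hv1 (htf v hvW ?_)
      have c2 : Commute t n := hn t ht
      have c3 := c2.inv_right.eq
      rw [← h2] at c3
      rw [c3, mul_inv_cancel_right]
    exact hv1 (h.no_v hl hw hw1 hvW hn e)
  rw [mem_centralizer_iff]
  intro r hr
  rw [e, hv1, one_mul]
  exact hn r hr

end TD1

namespace TD

variable {ι : Type} {S B Q V Xn ZJ B0 X M0 Y0 : Subgroup G} {L W Z C A : ι → Subgroup G} {z : G}
  {K N N1 N0 : ι → Subgroup G} (h : TD S B Q V Xn ZJ B0 X M0 Y0 L W Z C A z K N N1 N0)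

include h

/-- the family on `W*` and a small offender which moves `F m` -/
theorem exists_TD1 [Finite G] [Finite ι] (m : ι) : ∃ (H T : Subgroup G) (AA : Set (Subgroup G)) (D0 : Subgroup G),
    TD1 S B Q V Xn ZJ B0 X M0 Y0 L W Z C A z K N N1 N0 (X ⊔ ⨆ j, ⁅N j, K j⁆) H T AA m D0 := by
  set WW : Subgroup G := X ⊔ ⨆ j, ⁅N j, K j⁆ with hWW
  obtain ⟨T, AA, f⟩ := h.tk.fml WW (normalizer (WW : Set G) ⊓ M0) h.el h.WB0 h.WY0 inf_le_left inf_le_right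
  have hX : WW ⊓ X = X := inf_eq_right.2 (by rw [hWW]; exact le_sup_left)
  have hbl : ∀ i, Bl T WW (normalizer (WW : Set G) ⊓ M0) B0 X AA (K i) ⁅N i, K i⁆ := by
    intro i
    have h1 := (h.bk i).bl h.tk f (h.FW i) (h.loc i) (le_inf (h.loc i) (h.bk i).KM)
    rwa [hX] at h1
  rw [hX] at f
  -- a smallest member
  obtain ⟨A1, hA1, hA1'⟩ := (hbl m).off
  have hn : ¬ A1 ≤ centralizer (WW : Set G) := fun h' => hA1' (le_inf (f.le A1 hA1)
    (h'.trans (centralizer_le (h.FW m))))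
  obtain ⟨A0, hA0⟩ : ∃ A0, A0 ∈ DM WW AA := by
    have h1 : ∃ n, ∃ A ∈ AA, ¬ A ≤ centralizer (WW : Set G) ∧ (centralizer (WW : Set G)).relIndex A = n :=
      ⟨_, A1, hA1, hn, rfl⟩
    classical
    obtain ⟨A, hA, hA', hn⟩ := Nat.find_spec h1
    refine ⟨A, hA, hA', fun B hB hB' => ?_⟩
    rw [hn]
    exact Nat.find_min' h1 ⟨B, hB, hB', rfl⟩
  -- it moves some `F l`
  obtain ⟨l, hl⟩ : ∃ l, ¬ A0 ≤ centralizer ((⁅N l, K l⁆ : Subgroup G) : Set G) := by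
    by_contra hcon
    push Not at hcon
    apply hA0.2.1
    rw [le_centralizer_iff, hWW]
    refine sup_le ?_ (iSup_le fun i => le_centralizer_iff.1 (hcon i))
    exact fun x hx => mem_centralizer_iff.2 fun a ha => h.tk.cX (f.le A0 hA0.1 ha) hx
  -- conjugate into `m`
  obtain ⟨s, hs, hsW⟩ := h.tk.tr l m
  have hsN : s ∈ normalizer (WW : Set G) := h.S_norm hs
  have hA0' : cj s A0 ∈ AA := f.conj A0 hA0.1 s (mem_inf.2 ⟨hsN, h.tk.SM hs⟩)
    ((cj_mono s (f.le A0 hA0.1)).trans ((cj_eq_of_mem_normalizer (h.tk.SB0 hs)).le.trans f.BS))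
  have hD := DM_conj hA0 hsN hA0'
  refine ⟨_, T, AA, cj s A0, h, rfl, f, hbl m, hD, fun hc => hl ?_⟩
  have k' := (h.bk l).cj h.tk hs hsW
  have h1 := (uni' h.tk (h.bk m) k').1
  rw [comm_cjj] at h1
  have h2 : cj s A0 ≤ centralizer ((cj s ⁅N l, K l⁆ : Subgroup G) : Set G) := by
    rw [le_centralizer_iff]
    refine h1.trans (sup_le (le_centralizer_iff.1 hc) ?_)
    exact fun x hx => mem_centralizer_iff.2 fun a ha => h.tk.cX (f.le _ hA0' ha) hx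
  rw [← cj_centralizer] at h2
  exact Cfsg.Agent.Omega.NO3S.ThmB.cj_le_cj_iff.1 h2

/-- **(theta)** -/
theorem theta [Finite G] [Finite ι] (m : ι) : ∃ R ≤ K m, K m ≤ normalizer (R : Set G) ∧ K m ≤ R ⊔ B0 ∧
    ∀ l, l ≠ m → R ≤ centralizer ((⁅N l, K l⁆ : Subgroup G) : Set G) := by
  obtain ⟨H, T, AA, D0, t⟩ := h.exists_TD1 m
  exact ⟨TD1.Rg K m D0, t.Rg_le, TD1.Rg_norm, t.K_le, fun l hl => t.cen_F hl⟩

end TD

end Cfsg.Agent.Omega.OM.Lev.Low.TorusV
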