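import Cfsg.Agent.Omega.OM.Lev.Low.TorusK.Frame
import Cfsg.Agent.Omega.OM.Lev.Low.TorusK.PBCj
import Cfsg.Agent.Omega.OM.Lev.Low.TorusK.UniCl
import Cfsg.Agent.Omega.OM.Lev.Low.BlOf
import Cfsg.Agent.Omega.OM.Lev.Low.FrFour

/-!
# TORUS over an abstract module `V` (box R): the frame (helper607's `TorusK/Frame.lean`, the letter `S` = any group)

As `TorusK.TK`, `TorusK.BK`; the letter `S` is any group `M ≤ N(B)` which is transitive on the lines (in box R: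
`M = MZ S ⊓ N(B)`); only `B` is a 2-group. The proofs of `TorusK/Frame.lean`.
-/

set_option autoImplicit false
set_option linter.unusedSectionVars false

namespace Cfsg.Agent.Omega.OM.Lev.Low.TorusV

open Subgroup Cfsg Cfsg.Agent.ZN Cfsg.Agent.ZN.ChoiceBase Cfsg.Agent.Omega.OM.Lev.Low.TorusK
open Cfsg.Agent.Omega.SQ1.Bau (mem_sup_comm card_sup_comm elem_comm elem_sq)
open Cfsg.Agent.Omega.NO3S.Level.Claim (Fm Bl cB mem_cB cB_le)
open Cfsg.Agent.Omega.OM.Lev.Uni (FrL)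
open Cfsg.Agent.Omega.OM.Lev.Low.TorusK.PBC

universe u

variable {G : Type u} [Group G]

/-- The family at the stage. -/
def Fml (B0 X M0 Y0 : Subgroup G) : Prop :=
  ∀ U H : Subgroup G, IsElementaryAbelian 2 U → U ≤ B0 → U ≤ Y0 → H ≤ normalizer (U : Set G) → H ≤ M0 →
    ∃ (T : Subgroup G) (AA : Set (Subgroup G)), Fm T U H B0 (U ⊓ X) AA

/-- The frame of `S` (any group; transitive on the lines). -/
structure TK {ι : Type} (S B Q V Xn ZJ B0 X M0 Y0 : Subgroup G) (L W Z C A : ι → Subgroup G) (z : G) : Prop where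
  fr : FrL B Q V Xn ZJ L W Z C A 2
  fml : Fml B0 X M0 Y0
  two : IsPGroup 2 B
  BS : B ≤ S
  B0B : B0 ≤ B
  SB : S ≤ normalizer (B : Set G)
  SB0 : S ≤ normalizer (B0 : Set G)
  SX : S ≤ normalizer (X : Set G)
  zB : zc B0 = X
  VX : V ≤ X
  XY : X ≤ Y0
  mX : ∀ s ∈ B, (∀ x ∈ X, s * x = x * s) → s ∈ B0
  /-- `C_X(Q) = V` -/
  cQ : ∀ x ∈ X, (∀ y ∈ Q, y * x = x * y) → x ∈ V
  SM : S ≤ M0
  MY : M0 ≤ normalizer (Y0 : Set G)
  perm : ∀ s ∈ S, ∀ i, ∃ j, cj s (W i) = W j ∧ cj s (Z i) = Z j ∧ cj s (C i) = C j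
  tr : ∀ i j, ∃ s ∈ S, cj s (W i) = W j
  /-- (W): fusion in `ZJ` preserves full support -/
  wt : ∀ g z, z ∈ ZJ → g * z * g⁻¹ ∈ ZJ → (∀ i, z ∉ C i) → ∀ i, g * z * g⁻¹ ∉ C i
  /-- `B` is a Sylow 2-subgroup of `C_G(z_p : p ≠ l)` -/
  syl : ∀ l, ∀ T : Subgroup G, IsPGroup 2 T → B ≤ T → (∀ p, p ≠ l → T ≤ centralizer (Z p : Set G)) → T ≤ B
  /-- `Ω₁Z(O₂(C_G(z_p : p ≠ l)))` -/
  loc1 : ∀ l, ∃ E : Subgroup G, IsElementaryAbelian 2 E ∧ E ≤ B ∧ ZJ ≤ E ∧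
    ∀ g, (∀ p, p ≠ l → ∀ x ∈ Z p, g * x = x * g) → g ∈ normalizer (E : Set G)
  /-- `Ω₁Z(O₂(C_G(z_p : p ≠ l, m)))` -/
  loc2 : ∀ l m, l ≠ m → ∃ E : Subgroup G, IsElementaryAbelian 2 E ∧ (∀ e ∈ E, (∀ x ∈ X, e * x = x * e) → e ∈ B0) ∧
    (∀ x ∈ Z l, ∀ y ∈ Z m, x ≠ 1 → y ≠ 1 → x * y ∈ E) ∧
    ∀ g, (∀ p, p ≠ l → p ≠ m → ∀ x ∈ Z p, g * x = x * g) → g ∈ normalizer (E : Set G)
  /-- `z` has full support and is centralised by `S` -/
  zJ : z ∈ ZJ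
  zS : ∀ s ∈ S, s * z = z * s
  zC : ∀ i, z ∉ C i

/-- A torus block `K` over `B₀` with line `W l`, module `[N, K]`. -/
structure BK {ι : Type} (B B0 X M0 Y0 : Subgroup G) (W : ι → Subgroup G) (l : ι) (K N N1 N0 : Subgroup G) : Prop where
  pb : PB B0 K N N1 N0 4
  NY : N ≤ Y0
  KM : K ≤ M0
  WN : W l ≤ N1
  WN0 : W l ⊓ N0 = ⊥
  /-- `K` centralises the other `W p` -/
  cW : ∀ p, p ≠ l → ∀ w ∈ W p, ∀ k ∈ K, k * w = w * k
  BX : B ≤ normalizer ((X ⊓ centralizer (K : Set G) : Subgroup G) : Set G)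
  /-- a torus element -/
  tor : ∃ h ∈ K, h ∈ normalizer (B0 : Set G) ∧ (∀ w ∈ W l, h * w * h⁻¹ ∈ W l) ∧ ∀ w ∈ W l, h * w * h⁻¹ = w → w = 1

namespace TK

variable {ι : Type} {S B Q V Xn ZJ B0 X M0 Y0 : Subgroup G} {L W Z C A : ι → Subgroup G} {z : G}
  (h : TK S B Q V Xn ZJ B0 X M0 Y0 L W Z C A z)

include h

theorem elX [Finite G] : IsElementaryAbelian 2 X := by
  rw [← h.zB]
  exact NO3S.OneLine.zc_elem B0

theorem Xc [Finite G] {x y : G} (hx : x ∈ X) (hy : y ∈ X) : x * y = y * x := elem_comm h.elX x hx y hy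

theorem XB0 : X ≤ B0 := by
  rw [← h.zB]
  exact fun x hx => (ChoiceBase.mem_zc.1 hx).1

theorem cX {b x : G} (hb : b ∈ B0) (hx : x ∈ X) : b * x = x * b := by
  rw [← h.zB] at hx
  exact (ChoiceBase.mem_zc.1 hx).2.2 b hb

theorem WX (i : ι) : W i ≤ X := (h.fr.WV i).trans h.VX

theorem ZX (i : ι) : Z i ≤ X := (h.fr.ZV i).trans h.VX

theorem ZJX : ZJ ≤ X := h.fr.ZJV.trans h.VX

theorem ZW (i : ι) : Z i ≤ W i := (h.fr.blk i).ZV

theorem cardW (i : ι) : Nat.card (W i) = 4 := by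
  rw [(h.fr.blk i).card, h.fr.cardZ i]

theorem ZW' (i : ι) {w : G} (hw : w ∈ W i) (hJ : w ∈ ZJ) : w ∈ Z i :=
  (h.fr.blk i).mem_Z_iff.2 ⟨hw, fun b hb => ((h.fr.mem_ZJ w).1 hJ).2 b hb⟩

/-- `C_X(B) = ZJ` -/
theorem mem_ZJ_of {x : G} (hx : x ∈ X) (hc : ∀ b ∈ B, b * x = x * b) : x ∈ ZJ :=
  (h.fr.mem_ZJ x).2 ⟨h.cQ x hx fun y hy => hc y (h.fr.QB hy), hc⟩

theorem cZJ {b x : G} (hb : b ∈ B) (hx : x ∈ ZJ) : b * x = x * b := ((h.fr.mem_ZJ x).1 hx).2 b hb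

/-- the element of order 2 in `Z i` -/
theorem Z_two (i : ι) {x y : G} (hx : x ∈ Z i) (hy : y ∈ Z i) (hx1 : x ≠ 1) (hy1 : y ≠ 1) : x = y := by
  classical
  by_contra hne
  have h2 := h.fr.cardZ i
  have hfin : Finite (Z i) := Nat.finite_of_card_ne_zero (by rw [h2]; norm_num)
  have h3 : ({⟨1, one_mem _⟩, ⟨x, hx⟩, ⟨y, hy⟩} : Finset (Z i)).card = 3 := by
    rw [Finset.card_eq_three]
    exact ⟨_, _, _, fun e => hx1 (congrArg Subtype.val e).symm, fun e => hy1 (congrArg Subtype.val e).symm,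
      fun e => hne (congrArg Subtype.val e), rfl⟩
  have : Fintype (Z i) := Fintype.ofFinite _
  have h4 := Finset.card_le_univ ({⟨1, one_mem _⟩, ⟨x, hx⟩, ⟨y, hy⟩} : Finset (Z i))
  rw [h3, ← Nat.card_eq_fintype_card, h2] at h4
  omega

/-- **`z ↦ z c` is impossible for `1 ≠ c ∈ ZJ`.** -/
theorem no_shift {g z c : G} (hz : z ∈ ZJ) (hf : ∀ i, z ∉ C i) (hc : c ∈ ZJ) (he : g * z * g⁻¹ = z * c) : c = 1 := by
  by_contra hc1
  have h1 : ¬ ∀ i, c ∈ C i := fun hall => hc1 (h.fr.C0 c (h.fr.ZJV hc) hall)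
  push Not at h1
  obtain ⟨p, hp⟩ := h1
  obtain ⟨w, hw, d, hd, -, ez⟩ := h.fr.split_ZJ p hz
  obtain ⟨w', hw', d', hd', -, ec⟩ := h.fr.split_ZJ p hc
  have hw1 : w ≠ 1 := fun e => hf p (by rw [ez, e, one_mul]; exact hd)
  have hw1' : w' ≠ 1 := fun e => hp (by rw [ec, e, one_mul]; exact hd')
  have e1 : w = w' := h.Z_two p hw hw' hw1 hw1'
  have hgz : g * z * g⁻¹ ∈ ZJ := by rw [he]; exact mul_mem hz hc
  refine h.wt g z hz hgz hf p ?_
  have hww : w * w = 1 := by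
    have := elem_sq h.fr.el w (h.fr.ZV p hw)
    rwa [pow_two] at this
  have e2 : g * z * g⁻¹ = d * d' := by
    rw [he, ez, ec, ← e1]
    calc w * d * (w * d') = w * (d * w) * d' := by group
      _ = w * (w * d) * d' := by rw [h.fr.Vc (h.fr.CV p hd) (h.fr.ZV p hw)]
      _ = w * w * (d * d') := by group
      _ = d * d' := by rw [hww, one_mul]
  rw [e2]
  exact mul_mem hd hd'

/-- an element of `ZJ ∩ C l` is a product of elements of the `Z p`, `p ≠ l` -/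
theorem mem_of_C [Finite ι] {l : ι} {H : Subgroup G} (hH : ∀ p, p ≠ l → Z p ≤ H) {c : G} (hc : c ∈ ZJ) (hl : c ∈ C l) :
    c ∈ H := by
  have h1 : ZJ ≤ H ⊔ Z l := zj_le h.fr fun i => by
    by_cases hi : i = l
    · rw [hi]; exact le_sup_right
    · exact (hH i hi).trans le_sup_left
  -- use `H' = closure of the Z p`
  have h2 : ZJ ≤ (⨆ (p) (_ : p ≠ l), Z p) ⊔ Z l := zj_le h.fr fun i => by
    by_cases hi : i = l
    · rw [hi]; exact le_sup_right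
    · exact (le_iSup₂_of_le (f := fun p (_ : p ≠ l) => Z p) i hi le_rfl).trans le_sup_left
  have h3 : (⨆ (p) (_ : p ≠ l), Z p) ≤ C l :=
    iSup₂_le fun p hp => (h.ZW p).trans (h.fr.WjC l p (Ne.symm hp))
  obtain ⟨a, ha, b, hb, e⟩ := mem_sup_comm (fun a ha b hb =>
    h.fr.Vc ((h3.trans (h.fr.CV l)) ha) (h.fr.ZV l hb)) (h2 hc)
  have h4 : b = 1 := by
    have h5 : b ∈ W l ⊓ C l := by
      refine mem_inf.2 ⟨h.ZW l hb, ?_⟩
      have : b = a⁻¹ * c := by rw [e]; group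
      rw [this]
      exact mul_mem (inv_mem (h3 ha)) hl
    rw [h.fr.dir l, mem_bot] at h5
    exact h5
  rw [e, h4, mul_one]
  exact (iSup₂_le fun p hp => hH p hp) ha

/-- `t ∈ B` which centralises `C p` and moves `W p` -/
theorem exists_t (p : ι) : ∃ t ∈ B, (∀ c ∈ C p, t * c = c * t) ∧ ∃ w ∈ W p, t * w ≠ w * t := by
  have h1 := h.fr.Ane p
  push Not at h1
  obtain ⟨a, ha, w, hw, hne⟩ := h1
  exact ⟨a, h.fr.AB p ha, fun c hc => h.fr.AC p a ha c hc, w, hw, hne⟩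

theorem SMY : S ≤ normalizer (Y0 : Set G) := h.SM.trans h.MY

end TK

namespace BK

variable {ι : Type} {S B Q V Xn ZJ B0 X M0 Y0 : Subgroup G} {L W Z C A : ι → Subgroup G} {z : G}
  {l : ι} {K N N1 N0 : Subgroup G}

theorem N1_eq [Finite G] (k : BK B B0 X M0 Y0 W l K N N1 N0) (hc : Nat.card (W l) = 4) : N1 = W l ⊔ N0 := by
  have hcm : ∀ a ∈ W l, ∀ b ∈ N0, a * b = b * a := fun a ha b hb =>
    k.pb.comm (k.pb.N1N (k.WN ha)) (k.pb.N1N (k.pb.N01 hb))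
  have h1 := card_sup_comm hcm
  rw [k.WN0, hc, Subgroup.card_bot, mul_one] at h1
  have h2 := k.pb.card1
  have hle : W l ⊔ N0 ≤ N1 := sup_le k.WN k.pb.N01
  exact (Subgroup.eq_of_le_of_card_ge hle (by rw [h2, h1, mul_comm])).symm

/-- **conjugates** -/
theorem cj (h : TK S B Q V Xn ZJ B0 X M0 Y0 L W Z C A z) [Finite G] (k : BK B B0 X M0 Y0 W l K N N1 N0) {s : G}
    (hs : s ∈ S) {m : ι} (hm : ChoiceBase.cj s (W l) = W m) :
    BK B B0 X M0 Y0 W m (ChoiceBase.cj s K) (ChoiceBase.cj s N) (ChoiceBase.cj s N1) (ChoiceBase.cj s N0) where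
  pb := by
    have h1 := pb_cj k.pb s
    rwa [cj_eq_of_mem_normalizer (h.SB0 hs)] at h1
  NY := by
    have h1 := cj_mono s k.NY
    rwa [cj_eq_of_mem_normalizer (h.SMY hs)] at h1
  KM := by
    have h1 := cj_mono s k.KM
    rwa [cj_eq_of_mem_normalizer (le_normalizer (h.SM hs))] at h1
  WN := by rw [← hm]; exact cj_mono s k.WN
  WN0 := by
    rw [← hm, ← cj_inf, k.WN0]
    exact Subgroup.map_bot _
  cW := by
    intro p hp w hw x hx0
    obtain ⟨x, hx, rfl⟩ := ex_cj hx0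
    obtain ⟨j, hj, -, -⟩ := h.perm s⁻¹ (inv_mem hs) p
    have hjl : j ≠ l := fun e => hp (by
      have h1 : ChoiceBase.cj s (W j) = W p := by rw [← hj, cj_cj, mul_inv_cancel, cj_one]
      rw [e, hm] at h1
      by_contra hne
      have h2 := h.fr.WjC m p (Ne.symm hne)
      rw [← h1] at h2
      have h3 : W m ≤ W m ⊓ C m := le_inf le_rfl h2
      rw [h.fr.dir m] at h3
      have h4 := h.cardW m
      rw [eq_bot_iff.2 h3, Subgroup.card_bot] at h4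
      omega)
    have hw' : s⁻¹ * w * s ∈ W j := by
      rw [← hj, mem_cj']
      simpa [mul_assoc] using hw
    have h1 := k.cW j hjl _ hw' x hx
    have h2 := (PBC.comm_cj (g := s)).2 h1
    have e : s * (s⁻¹ * w * s) * s⁻¹ = w := by group
    rwa [e] at h2
  BX := by
    have h1 : ChoiceBase.cj s (X ⊓ centralizer (K : Set G)) = X ⊓ centralizer (ChoiceBase.cj s K : Set G) := by
      rw [cj_inf, cj_centralizer, cj_eq_of_mem_normalizer (h.SX hs)]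
    rw [← h1]
    intro b hb
    rw [mem_normalizer_iff_cj]
    have hb' : s⁻¹ * b * s ∈ B := by
      have := (mem_normalizer_iff.1 (inv_mem (h.SB hs)) b).1 hb
      simpa using this
    have h2 := cj_eq_of_mem_normalizer (k.BX hb')
    rw [cj_cj, show b * s = s * (s⁻¹ * b * s) by group, ← cj_cj, h2]
  tor := by
    obtain ⟨x, hx, hxB, hxW, hxf⟩ := k.tor
    refine ⟨_, cj_mem hx, ?_, ?_, ?_⟩
    · have h1 : s ∈ normalizer (B0 : Set G) := h.SB0 hs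
      exact mul_mem (mul_mem h1 hxB) (inv_mem h1)
    · intro w hw0
      rw [← hm] at hw0 ⊢
      obtain ⟨w, hw, rfl⟩ := ex_cj hw0
      have e : s * x * s⁻¹ * (s * w * s⁻¹) * (s * x * s⁻¹)⁻¹ = s * (x * w * x⁻¹) * s⁻¹ := by group
      rw [e]
      exact cj_mem (hxW w hw)
    · intro w hw0 he
      rw [← hm] at hw0
      obtain ⟨w, hw, rfl⟩ := ex_cj hw0
      have e : s * x * s⁻¹ * (s * w * s⁻¹) * (s * x * s⁻¹)⁻¹ = s * (x * w * x⁻¹) * s⁻¹ := by group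
      rw [e] at he
      have h1 := hxf w hw (mul_left_cancel (mul_right_cancel he))
      rw [h1]; group

end BK

end Cfsg.Agent.Omega.OM.Lev.Low.TorusV
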