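import Cfsg.Agent.Omega.OM.SwapV.Torus.BaseV
import Cfsg.Agent.Omega.OM.SwapV.Torus.Frame

/-!
# TORUS over `LnV` (box R): the instance of helper630's `TorusV.TK` (helper662)

The letter `S` of the frame is `MB S n = MZ S ⊓ N_G(B)`.

* `LocV` : the local fields (helper422);
* **`tk_of`**.
-/

set_option autoImplicit false
set_option linter.unusedSectionVars false

namespace Cfsg.Agent.Omega.OM.SwapV.TorusV

open Subgroup Cfsg Cfsg.Agent.Omega.MinPar Cfsg.Agent.ZN.ChoiceBase Cfsg.Agent.ZN.ChoiceSit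
open Cfsg.Agent.ZN (jj zj bau zc zl o2)
open Cfsg.Agent.Omega.NO3S.Level (lev lev_mono lev_isLev Lev lev_le)
open Cfsg.Agent.Omega.OM.SwapL (ZL BL lb)
open Cfsg.Agent.Omega.OM.SwapV.Lv (LnV)
open Cfsg.Agent.Omega.NOThreeL.Merge (MZ le_MZ S_le_MZ)
open Cfsg.Agent.Omega.OM.Lev.Low.SetS (S_norm_lev S_norm_zc S_norm_BL)
open Cfsg.Agent.Omega.OM.Lev.Low.TorusK (stM stY fml_of)
open Cfsg.Agent.Omega.OM.Lev.Low.TorusV (TK Fml)
open Cfsg.Agent.Omega.NOThreeL.RTree (RB)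

universe u

variable {G : Type u} [Group G]

/-- The local fields of `TK` (helper422). -/
structure LocV {ι : Type} (B ZJ B0 X : Subgroup G) (W Z C : ι → Subgroup G) : Prop where
  wt : ∀ g z, z ∈ ZJ → g * z * g⁻¹ ∈ ZJ → (∀ i, z ∉ C i) → ∀ i, g * z * g⁻¹ ∉ C i
  cjC : ∀ g ∈ normalizer (B : Set G), ∀ i j, cj g (W i) = W j → cj g (C i) = C j
  syl : ∀ l, ∀ T : Subgroup G, IsPGroup 2 T → B ≤ T → (∀ p, p ≠ l → T ≤ centralizer (Z p : Set G)) → T ≤ B
  loc1 : ∀ l, ∃ E : Subgroup G, IsElementaryAbelian 2 E ∧ E ≤ B ∧ ZJ ≤ E ∧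
    ∀ g, (∀ p, p ≠ l → ∀ x ∈ Z p, g * x = x * g) → g ∈ normalizer (E : Set G)
  loc2 : ∀ l m, l ≠ m → ∃ E : Subgroup G, IsElementaryAbelian 2 E ∧ (∀ e ∈ E, (∀ x ∈ X, e * x = x * e) → e ∈ B0) ∧
    (∀ x ∈ Z l, ∀ y ∈ Z m, x ≠ 1 → y ≠ 1 → x * y ∈ E) ∧
    ∀ g, (∀ p, p ≠ l → p ≠ m → ∀ x ∈ Z p, g * x = x * g) → g ∈ normalizer (E : Set G)

variable [Finite G] {S : Sylow 2 G} {n : ℕ}

theorem S_le_MB (B : RB S) : (S : Subgroup G) ≤ MB (S : Subgroup G) n :=
  le_inf (S_le_MZ B.ctx B.full) (S_norm_BL S (n + 1))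

/-- **The instance of `TK`.** -/
theorem tk_of {ι : Type} [Finite ι] {V Q : Subgroup G} {L W Z C A : ι → Subgroup G} (R : RB S)
    (h : LnV S V Q n L W Z C A)
    (hall : ∀ P : Subgroup G, IsParS (S : Subgroup G) P → lev (S : Subgroup G) n ≤ o2 P)
    (tr : ∀ i j, ∃ g ∈ MB (S : Subgroup G) n, cj g (W i) = W j) {j : ℕ} (hj : j ≤ n) {z : G}
    (hz : z ∈ ZL (S : Subgroup G) n) (hzC : ∀ i, z ∉ C i)
    (hloc : LocV (BL (S : Subgroup G) n) (ZL (S : Subgroup G) n) (LevB.BL (S : Subgroup G) j)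
      (zc (lev (S : Subgroup G) j)) W Z C) :
    TK (MB (S : Subgroup G) n) (BL (S : Subgroup G) n) Q V (zc (lev (S : Subgroup G) n))
      (ZL (S : Subgroup G) n) (LevB.BL (S : Subgroup G) j) (zc (lev (S : Subgroup G) j)) (stM (S : Subgroup G) j)
      (stY (S : Subgroup G) j) L W Z C A z where
  fr := h.fr
  fml := fun U H hU hUB hUY hHU hHM => by
    obtain ⟨AA, hAA, -⟩ := fml_of S j U H hU hUB hUY hHU hHM
    exact ⟨_, AA, hAA⟩
  two := (lb S n).Bp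
  BS := (lb S n).BS.trans (S_le_MB R)
  B0B := Lev.Low.BL_mono (S : Subgroup G) (by omega : j ≤ n + 1)
  SB := inf_le_right
  SB0 := inf_le_left.trans (norm_BL R.ctx.char2 hall hj)
  SX := inf_le_left.trans (norm_zc hall hj)
  zB := LevB.zc_B S j
  VX := h.fr.VX.trans ((lev_isLev (S : Subgroup G) j).zc_le_zc (lev_mono _ hj) (lev_le _ n))
  XY := by
    cases j with
    | zero => exact le_top
    | succ m => exact (lev_isLev (S : Subgroup G) m).zc_le_zc (lev_mono _ (Nat.le_succ m)) (lev_le _ _)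
  mX := fun s hs hc => mem_inf.2 ⟨(lb S n).BS hs, mem_centralizer_iff.2 fun x hx => (hc x hx).symm⟩
  cQ := fun x hx hc => cQ h hj hx hc
  SM := by
    cases j with
    | zero => exact le_top
    | succ m => exact inf_le_left.trans (norm_lev hall (by omega))
  MY := by
    cases j with
    | zero =>
      show (⊤ : Subgroup G) ≤ normalizer (((⊤ : Subgroup G) : Subgroup G) : Set G)
      intro x _
      rw [mem_normalizer_iff]
      exact fun y => ⟨fun _ => mem_top _, fun _ => mem_top _⟩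
    | succ m => exact NO3S.Level.normalizer_le_zc _
  perm := fun s hs i => by
    obtain ⟨k, h1, h2, -⟩ := Lv.perm h (mem_inf.1 hs).2 i
    exact ⟨k, h2, h1, hloc.cjC s (mem_inf.1 hs).2 i k h2⟩
  tr := tr
  wt := hloc.wt
  syl := hloc.syl
  loc1 := hloc.loc1
  loc2 := hloc.loc2
  zJ := hz
  zS := fun s hs => Lv.comm_of_supp h (mem_inf.1 hs).2 hz fun i k _ => ⟨fun h1 => absurd h1 (hzC i),
    fun h1 => absurd h1 (hzC k)⟩
  zC := hzC

end Cfsg.Agent.Omega.OM.SwapV.TorusV
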