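import Cfsg.Agent.Omega.OM.SwapV.Torus.Uni

/-!
# TORUS over an abstract module (box R): the splitting of `X`, one block (the proofs of `TorusK/SplitOne.lean`)
-/

set_option autoImplicit false
set_option linter.unusedSectionVars false

namespace Cfsg.Agent.Omega.OM.Lev.Low.TorusV

open Subgroup Cfsg Cfsg.Agent.ZN Cfsg.Agent.ZN.ChoiceBase Cfsg.Agent.Omega.OM.Lev.Low.TorusK
open Cfsg.Agent.Omega.SQ1.Bau (mem_sup_comm card_sup_comm elem_comm elem_sq)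
open Cfsg.Agent.Omega.NO3S.Level.Claim (Fm Bl cB mem_cB cB_le)
open Cfsg.Agent.Omega.OM.Lev.Uni (FrL)
open Cfsg.Agent.Omega.OM.Lev.Low.TorusK.PBC
open scoped commutatorElement

universe u

variable {G : Type u} [Group G]

/-- fixed points of a 2-group on a quotient `M / X` -/
theorem exists_fix_mod [Finite G] {X M P : Subgroup G} (hP : IsPGroup 2 P) (hPX : P ≤ normalizer (X : Set G))
    (hPM : P ≤ normalizer (M : Set G)) (hM : IsPGroup 2 M) (hMX : M ≤ normalizer (X : Set G)) (hne : ¬ M ≤ X) :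
    ∃ y ∈ M, y ∉ X ∧ ∀ b ∈ P, b * y * b⁻¹ * y⁻¹ ∈ X := by
  classical
  let N : Subgroup G := normalizer (X : Set G)
  let X' : Subgroup N := X.subgroupOf N
  haveI : X'.Normal := Subgroup.normal_in_normalizer
  let q : N →* N ⧸ X' := QuotientGroup.mk' X'
  have hq : ∀ x : N, q x = 1 ↔ (x : G) ∈ X := fun x => by
    rw [show q x = (x : N ⧸ X') from rfl, QuotientGroup.eq_one_iff]
    exact mem_subgroupOf
  let Mq := (M.subgroupOf N).map q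
  let Pq := (P.subgroupOf N).map q
  have h1 : IsPGroup 2 Mq := IsPGroup.map (hM.comap_subtype) q
  have h2 : IsPGroup 2 Pq := IsPGroup.map (hP.comap_subtype) q
  have h3 : Pq ≤ normalizer (Mq : Set (N ⧸ X')) := by
    rintro _ ⟨b, hb, rfl⟩
    rw [mem_normalizer_iff_cj]
    apply le_antisymm
    · rintro _ ⟨_, ⟨m, hm, rfl⟩, rfl⟩
      refine ⟨b * m * b⁻¹, ?_, by simp⟩
      exact (mem_normalizer_iff.1 (hPM (mem_subgroupOf.1 hb)) _).1 (mem_subgroupOf.1 hm)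
    · rintro _ ⟨m, hm, rfl⟩
      refine mem_cj.2 ⟨b⁻¹ * m * b, ?_, by simp⟩
      have h4 := (mem_normalizer_iff.1 (inv_mem (hPM (mem_subgroupOf.1 hb))) _).1 (mem_subgroupOf.1 hm)
      show (b : G)⁻¹ * m * b ∈ M
      simpa using h4
  have h4 : Mq ≠ ⊥ := fun e => hne fun m hm => by
    have h5 : q ⟨m, hMX hm⟩ ∈ Mq := ⟨⟨m, hMX hm⟩, hm, rfl⟩
    rw [e, mem_bot, hq] at h5
    exact h5
  have h5 := PLocal.OffenderStep.inf_centralizer_ne_bot Mq Pq h1 h2 h3 h4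
  obtain ⟨⟨x, hx⟩, hx1⟩ := (Subgroup.ne_bot_iff_exists_ne_one).1 h5
  obtain ⟨⟨m, hm, rfl⟩, hxP⟩ := mem_inf.1 hx
  refine ⟨m, mem_subgroupOf.1 hm, fun h6 => hx1 (Subtype.ext ((hq m).2 h6)), fun b hb => ?_⟩
  have hb' : q ⟨b, hPX hb⟩ ∈ Pq := ⟨⟨b, hPX hb⟩, hb, rfl⟩
  have h6 := mem_centralizer_iff.1 hxP _ hb'
  have h7 : q (⟨b, hPX hb⟩ * m * ⟨b, hPX hb⟩⁻¹ * m⁻¹) = 1 := by
    rw [map_mul, map_mul, map_mul, map_inv, map_inv, h6]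
    group
  exact (hq _).1 h7

variable {ι : Type} {S B Q V Xn ZJ B0 X M0 Y0 : Subgroup G} {L W Z C A : ι → Subgroup G} {z : G}
  {l : ι} {K N N1 N0 : Subgroup G}

namespace TK

variable (h : TK S B Q V Xn ZJ B0 X M0 Y0 L W Z C A z)
include h

theorem BW [Finite G] {b : G} (hb : b ∈ B) (l : ι) : cj b (W l) = W l :=
  cj_eq_of_mem_normalizer (mem_normalizer_of_cj_le (by
    rintro _ ⟨w, hw, rfl⟩
    exact (h.fr.blk l).BV hb hw))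

theorem BX' [Finite G] : B ≤ normalizer (X : Set G) := h.BS.trans h.SX

theorem BB0 [Finite G] : B ≤ normalizer (B0 : Set G) := h.BS.trans h.SB0

theorem twoB : IsPGroup 2 B := h.two

end TK

namespace BK

theorem N0X [Finite G] (h : TK S B Q V Xn ZJ B0 X M0 Y0 L W Z C A z) (k : BK B B0 X M0 Y0 W l K N N1 N0) {n : G}
    (hn : n ∈ N0) : n ∈ X ⊓ centralizer (K : Set G) := by
  refine mem_inf.2 ⟨?_, mem_centralizer_iff.2 fun g hg => k.pb.N0c g hg n hn⟩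
  rw [← h.zB]
  exact (BlOf.line_iff k.pb (k.pb.N1N (k.pb.N01 hn))).1 (k.pb.N01 hn)

theorem N1X [Finite G] (h : TK S B Q V Xn ZJ B0 X M0 Y0 L W Z C A z) (k : BK B B0 X M0 Y0 W l K N N1 N0) {n : G}
    (hn : n ∈ N) : n ∈ N1 ↔ n ∈ X := by
  rw [← h.zB]
  exact BlOf.line_iff k.pb hn

theorem split1 [Finite G] (h : TK S B Q V Xn ZJ B0 X M0 Y0 L W Z C A z) (k : BK B B0 X M0 Y0 W l K N N1 N0) {n : G}
    (hn : n ∈ N1) : ∃ w ∈ W l, ∃ n0 ∈ N0, n = w * n0 := by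
  rw [k.N1_eq (h.cardW l)] at hn
  exact mem_sup_comm (fun a ha b hb => k.pb.comm (k.pb.N1N (k.WN ha)) (k.pb.N1N (k.pb.N01 hb))) hn

/-- `N₁ ∩ C(K) = N₀` -/
theorem mem_N0 [Finite G] (h : TK S B Q V Xn ZJ B0 X M0 Y0 L W Z C A z) (k : BK B B0 X M0 Y0 W l K N N1 N0) {n : G}
    (hn : n ∈ N1) (hc : ∀ g ∈ K, g * n = n * g) : n ∈ N0 := by
  obtain ⟨w, hw, n0, hn0, rfl⟩ := k.split1 h hn
  have h1 : w = 1 := k.W_cen hw fun g hg => by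
    have h2 := hc g hg
    have h3 := k.pb.N0c g hg n0 hn0
    have h4 : g * w * n0 = w * g * n0 := by
      calc g * w * n0 = g * (w * n0) := by group
        _ = (w * n0) * g := h2
        _ = w * (n0 * g) := by group
        _ = w * (g * n0) := by rw [h3]
        _ = _ := by group
    exact mul_right_cancel h4
  rw [h1, one_mul]
  exact hn0

/-- an element of `B` centralising the line `W l` centralises `[[N, K], B₀]` -/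
theorem cen_ch [Finite G] (h : TK S B Q V Xn ZJ B0 X M0 Y0 L W Z C A z) (k : BK B B0 X M0 Y0 W l K N N1 N0) {b : G}
    (hb : b ∈ B) (hbW : ∀ w ∈ W l, b * w = w * b) : ∀ x ∈ (⁅⁅N, K⁆, B0⁆ : Subgroup G), b * x = x * b := by
  set V' : Subgroup G := ⁅N, K⁆ with hV'
  have hVB : V' ≤ B0 := k.VB0
  have hVN : V' ≤ N := k.pb.VN
  have k' := k.cj h (h.BS hb) (h.BW hb l)
  obtain ⟨hu, hc⟩ := uni' h k k'
  have ecj : ⁅ChoiceBase.cj b N, ChoiceBase.cj b K⁆ = ChoiceBase.cj b V' := by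
    rw [hV']; exact (Subgroup.map_commutator _ _ _).symm
  rw [ecj] at hu hc
  have hbB0 := h.BB0 hb
  have hbX := h.BX' hb
  have hcX : ∀ a ∈ V', ∀ x ∈ X, a * x = x * a := fun a ha x hx => h.cX (hVB ha) hx
  -- `b` acts on `V' X`
  have hM : ∀ v ∈ V', ∃ u ∈ V', ∃ x ∈ X, b * v * b⁻¹ = u * x := fun v hv =>
    mem_sup_comm hcX (hu (cj_mem hv))
  have hXK : ∀ x ∈ X ⊓ centralizer (K : Set G), b * x * b⁻¹ ∈ X ⊓ centralizer (K : Set G) := fun x hx =>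
    (mem_normalizer_iff.1 (k.BX hb) x).1 hx
  -- (F3)
  have F3 : ∀ y ∈ N1, b * y * b⁻¹ * y⁻¹ ∈ X ⊓ centralizer (K : Set G) := by
    intro y hy
    obtain ⟨w, hw, n, hn, rfl⟩ := k.split1 h hy
    have hnX := k.N0X h hn
    have h1 := mul_mem (hXK n hnX) (inv_mem hnX)
    have e : b * (w * n) * b⁻¹ * (w * n)⁻¹ = b * n * b⁻¹ * n⁻¹ := by
      have h2 : w * (b * n * b⁻¹ * n⁻¹) = (b * n * b⁻¹ * n⁻¹) * w := h.Xc (h.WX l hw) h1.1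
      calc b * (w * n) * b⁻¹ * (w * n)⁻¹ = (b * w) * n * b⁻¹ * n⁻¹ * w⁻¹ := by group
        _ = (w * b) * n * b⁻¹ * n⁻¹ * w⁻¹ := by rw [hbW w hw]
        _ = w * (b * n * b⁻¹ * n⁻¹) * w⁻¹ := by group
        _ = (b * n * b⁻¹ * n⁻¹) * w * w⁻¹ := by rw [h2]
        _ = _ := by group
    rw [e]
    exact h1
  -- `[a, u x] = [a, u]`
  have F5 : ∀ a ∈ B0, ∀ u, ∀ x ∈ X, a * (u * x) * a⁻¹ * (u * x)⁻¹ = a * u * a⁻¹ * u⁻¹ := by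
    intro a ha u x hx
    have h1 := h.cX ha hx
    calc a * (u * x) * a⁻¹ * (u * x)⁻¹ = a * u * (x * a⁻¹) * x⁻¹ * u⁻¹ := by group
      _ = a * u * (a⁻¹ * (a * x) * a⁻¹) * x⁻¹ * u⁻¹ := by group
      _ = a * u * (a⁻¹ * (x * a) * a⁻¹) * x⁻¹ * u⁻¹ := by rw [h1]
      _ = _ := by group
  -- the element `y`
  have hXV : ¬ V' ⊔ X ≤ X := by
    intro hle
    obtain ⟨v, hv, hv1⟩ := k.pb.exists_v
    obtain ⟨u, hu', n, hn, rfl⟩ := k.pb.exists_V hv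
    exact hv1 (mul_mem ((k.N1X h (hVN hu')).2 (hle (mem_sup_left hu'))) (k.pb.N01 hn))
  have hX2 : IsPGroup 2 B0 := k.pb.Bp
  have hle0 : V' ⊔ X ≤ B0 := sup_le hVB h.XB0
  have hPX : zpowers b ≤ normalizer (X : Set G) := by rw [zpowers_le]; exact hbX
  have hPM : zpowers b ≤ normalizer ((V' ⊔ X : Subgroup G) : Set G) := by
    rw [zpowers_le]
    refine mem_normalizer_of_cj_le ?_
    rw [show ChoiceBase.cj b (V' ⊔ X) = ChoiceBase.cj b V' ⊔ ChoiceBase.cj b X from Subgroup.map_sup _ _ _,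
      cj_eq_of_mem_normalizer hbX]
    exact sup_le hu le_sup_right
  have hMX : V' ⊔ X ≤ normalizer (X : Set G) := sup_le (fun v hv => mem_normalizer_of_cj_le (by
    rintro _ ⟨x, hx, rfl⟩
    show v * x * v⁻¹ ∈ X
    rw [hcX v hv x hx, mul_inv_cancel_right]
    exact hx)) le_normalizer
  obtain ⟨y0, hy0, hy0X, hfix⟩ := exists_fix_mod (h.twoB.to_le (by rw [zpowers_le]; exact hb)) hPX hPM
    (hX2.to_le hle0) hMX hXV
  obtain ⟨y, hy, x0, hx0, rfl⟩ := mem_sup_comm hcX hy0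
  have hyX : y ∉ X := fun h1 => hy0X (mul_mem h1 hx0)
  have hyN1 : y ∉ N1 := fun h1 => hyX ((k.N1X h (hVN hy)).1 h1)
  -- `b y b⁻¹ = y x₁`
  obtain ⟨x1, hx1, hyb⟩ : ∃ x1 ∈ X, b * y * b⁻¹ = y * x1 := by
    have h1 := hfix b (mem_zpowers b)
    have hx0' : b * x0 * b⁻¹ ∈ X := (mem_normalizer_iff.1 hbX x0).1 hx0
    refine ⟨y⁻¹ * (b * (y * x0) * b⁻¹ * (y * x0)⁻¹) * y * (x0 * (b * x0 * b⁻¹)⁻¹), ?_, ?_⟩
    · refine mul_mem ?_ (mul_mem hx0 (inv_mem hx0'))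
      have h2 := hcX y⁻¹ (inv_mem hy) _ h1
      have e : y⁻¹ * (b * (y * x0) * b⁻¹ * (y * x0)⁻¹) * y = b * (y * x0) * b⁻¹ * (y * x0)⁻¹ := by
        rw [h2]; group
      rw [e]; exact h1
    · have h2 := hcX y hy x0 hx0
      calc b * y * b⁻¹ = b * (y * x0) * b⁻¹ * (y * x0)⁻¹ * (y * x0) * (b * x0 * b⁻¹)⁻¹ := by group
        _ = _ := by group
  -- (i) `b a b⁻¹ ∈ a C(V')`
  have hpi : ∀ a ∈ B0, ∀ v ∈ V', (b * a * b⁻¹ * a⁻¹) * v = v * (b * a * b⁻¹ * a⁻¹) := by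
    intro a ha
    have ha' : b * a * b⁻¹ ∈ B0 := (mem_normalizer_iff.1 hbB0 a).1 ha
    have e1 : b * (a * y * a⁻¹ * y⁻¹) * b⁻¹ = (b * a * b⁻¹) * y * (b * a * b⁻¹)⁻¹ * y⁻¹ := by
      rw [← F5 _ ha' y x1 hx1, ← hyb]; group
    have h1 := F3 _ (k.pb.quad a ha y (hVN hy))
    rw [e1] at h1
    -- `[a' a⁻¹, y] ∈ X_K`
    have ha'' : b * a * b⁻¹ * a⁻¹ ∈ B0 := mul_mem ha' (inv_mem ha)
    have e2 : (b * a * b⁻¹ * a⁻¹) * y * (b * a * b⁻¹ * a⁻¹)⁻¹ * y⁻¹ =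
        (b * a * b⁻¹) * y * (b * a * b⁻¹)⁻¹ * y⁻¹ * (a * y * a⁻¹ * y⁻¹)⁻¹ := by
      have hq : a⁻¹ * y * a⁻¹⁻¹ * y⁻¹ ∈ N1 := k.pb.quad a⁻¹ (inv_mem ha) y (hVN hy)
      have h3 : a * (a⁻¹ * y * a⁻¹⁻¹ * y⁻¹) = (a⁻¹ * y * a⁻¹⁻¹ * y⁻¹) * a := k.pb.N1c a ha _ hq
      have h4 : (b * a * b⁻¹) * (a⁻¹ * y * a⁻¹⁻¹ * y⁻¹) = (a⁻¹ * y * a⁻¹⁻¹ * y⁻¹) * (b * a * b⁻¹) :=
        k.pb.N1c _ ha' _ hq
      have h5 : a⁻¹ * y * a⁻¹⁻¹ * y⁻¹ = (a * y * a⁻¹ * y⁻¹)⁻¹ := by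
        have h6 : a * (a⁻¹ * y * a⁻¹⁻¹ * y⁻¹) * a⁻¹ = a⁻¹ * y * a⁻¹⁻¹ * y⁻¹ := by rw [h3]; group
        rw [← h6]; group
      rw [← h5]
      have hcm : (a⁻¹ * y * a⁻¹⁻¹ * y⁻¹) * ((b * a * b⁻¹) * y * (b * a * b⁻¹)⁻¹ * y⁻¹) =
          ((b * a * b⁻¹) * y * (b * a * b⁻¹)⁻¹ * y⁻¹) * (a⁻¹ * y * a⁻¹⁻¹ * y⁻¹) :=
        k.pb.comm (k.pb.N1N hq) (k.pb.N1N (k.pb.quad _ ha' y (hVN hy)))
      rw [← hcm]
      calc (b * a * b⁻¹ * a⁻¹) * y * (b * a * b⁻¹ * a⁻¹)⁻¹ * y⁻¹ =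
          ((b * a * b⁻¹) * (a⁻¹ * y * a⁻¹⁻¹ * y⁻¹)) * y * (b * a * b⁻¹)⁻¹ * y⁻¹ := by group
        _ = _ := by rw [h4]; group
    have h2 : (b * a * b⁻¹ * a⁻¹) * y * (b * a * b⁻¹ * a⁻¹)⁻¹ * y⁻¹ ∈ N0 := by
      refine k.mem_N0 h (k.pb.quad _ ha'' y (hVN hy)) fun g hg => ?_
      rw [e2]
      exact mem_centralizer_iff.1 h1.2 g hg
    by_contra hcon
    push Not at hcon
    obtain ⟨v, hv, hne⟩ := hcon
    exact hyN1 (k.pb.cent _ ha'' ⟨v, hVN hv, hne⟩ y (hVN hy) h2)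
  -- (ii) `b v b⁻¹ ∈ v X`
  have hvX : ∀ v ∈ V', ∃ x ∈ X, b * v * b⁻¹ = v * x := by
    intro v hv
    obtain ⟨u, hu1, x, hx, e⟩ := hM v hv
    obtain ⟨a, ha, w, hw, hne⟩ := k.pb.exists_b
    have hne' : ∃ v ∈ N, (a : G) * v ≠ v * a := ⟨w, hw, hne⟩
    have ha' : b * a * b⁻¹ ∈ B0 := (mem_normalizer_iff.1 hbB0 a).1 ha
    have hcon := k.pb.cent a ha hne' (u * v⁻¹) (mul_mem (hVN hu1) (inv_mem (hVN hv))) ?_
    · refine ⟨u * v⁻¹ * x, mul_mem ((k.N1X h (mul_mem (hVN hu1) (inv_mem (hVN hv)))).1 hcon) hx, ?_⟩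
      rw [e]
      have h1 : u * v⁻¹ * x = x * (u * v⁻¹) := hcX _ (mul_mem hu1 (inv_mem hv)) x hx
      have h2 : v * (u * v⁻¹) = u := by
        rw [← mul_assoc, k.pb.comm (hVN hv) (hVN hu1), mul_inv_cancel_right]
      calc u * x = (v * (u * v⁻¹)) * x := by rw [h2]
        _ = _ := by group
    · -- `[a, u v⁻¹] ∈ N₀`
      have h1 := F3 _ (k.pb.quad a ha v (hVN hv))
      have e1 : b * (a * v * a⁻¹ * v⁻¹) * b⁻¹ = a * u * a⁻¹ * u⁻¹ := by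
        have h3 : b * (a * v * a⁻¹ * v⁻¹) * b⁻¹ = (b * a * b⁻¹) * (u * x) * (b * a * b⁻¹)⁻¹ * (u * x)⁻¹ := by
          rw [← e]; group
        rw [h3, F5 _ ha' u x hx]
        have h4 := hpi a ha (a * u * a⁻¹) (by
          have := (mem_normalizer_iff.1 (k.pb.LV (k.pb.BL ha)) u).1 hu1
          exact this)
        have h5 : b * a * b⁻¹ * u * (b * a * b⁻¹)⁻¹ = a * u * a⁻¹ := by
          calc b * a * b⁻¹ * u * (b * a * b⁻¹)⁻¹ = (b * a * b⁻¹ * a⁻¹) * (a * u * a⁻¹) * (b * a * b⁻¹ * a⁻¹)⁻¹ := by group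
            _ = (a * u * a⁻¹) * (b * a * b⁻¹ * a⁻¹) * (b * a * b⁻¹ * a⁻¹)⁻¹ := by rw [h4]
            _ = _ := by group
        rw [h5]
      rw [e1] at h1
      have e2 : a * (u * v⁻¹) * a⁻¹ * (u * v⁻¹)⁻¹ = a * u * a⁻¹ * u⁻¹ * (a * v * a⁻¹ * v⁻¹)⁻¹ := by
        have hav : a * v⁻¹ * a⁻¹ ∈ N := k.pb.Nn a (k.pb.BL ha) _ (inv_mem (hVN hv))
        have h3 : (a * v⁻¹ * a⁻¹) * (v * u⁻¹) = (v * u⁻¹) * (a * v⁻¹ * a⁻¹) :=
          k.pb.comm hav (mul_mem (hVN hv) (inv_mem (hVN hu1)))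
        have h4 : v * u⁻¹ = u⁻¹ * v := k.pb.comm (hVN hv) (inv_mem (hVN hu1))
        calc a * (u * v⁻¹) * a⁻¹ * (u * v⁻¹)⁻¹ = (a * u * a⁻¹) * ((a * v⁻¹ * a⁻¹) * (v * u⁻¹)) := by group
          _ = (a * u * a⁻¹) * ((v * u⁻¹) * (a * v⁻¹ * a⁻¹)) := by rw [h3]
          _ = (a * u * a⁻¹) * ((u⁻¹ * v) * (a * v⁻¹ * a⁻¹)) := by rw [h4]
          _ = _ := by group
      refine k.mem_N0 h (k.pb.quad a ha _ (mul_mem (hVN hu1) (inv_mem (hVN hv)))) fun g hg => ?_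
      rw [e2]
      exact mem_centralizer_iff.1 h1.2 g hg
  -- (iii)
  have hle : (⁅V', B0⁆ : Subgroup G) ≤ centralizer {b} := by
    rw [Subgroup.commutator_le]
    intro v hv a ha
    obtain ⟨x, hx, e⟩ := hvX v hv
    have ha' : b * a * b⁻¹ ∈ B0 := (mem_normalizer_iff.1 hbB0 a).1 ha
    have h1 : b * (a * v * a⁻¹ * v⁻¹) * b⁻¹ = a * v * a⁻¹ * v⁻¹ := by
      have h3 : b * (a * v * a⁻¹ * v⁻¹) * b⁻¹ = (b * a * b⁻¹) * (v * x) * (b * a * b⁻¹)⁻¹ * (v * x)⁻¹ := by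
        rw [← e]; group
      rw [h3, F5 _ ha' v x hx]
      have h4 := hpi a ha (a * v * a⁻¹) ((mem_normalizer_iff.1 (k.pb.LV (k.pb.BL ha)) v).1 hv)
      have h5 : b * a * b⁻¹ * v * (b * a * b⁻¹)⁻¹ = a * v * a⁻¹ := by
        calc b * a * b⁻¹ * v * (b * a * b⁻¹)⁻¹ = (b * a * b⁻¹ * a⁻¹) * (a * v * a⁻¹) * (b * a * b⁻¹ * a⁻¹)⁻¹ := by group
          _ = (a * v * a⁻¹) * (b * a * b⁻¹ * a⁻¹) * (b * a * b⁻¹ * a⁻¹)⁻¹ := by rw [h4]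
          _ = _ := by group
      rw [h5]
    have h2 : a * v * a⁻¹ * v⁻¹ ∈ centralizer ({b} : Set G) := by
      rw [mem_centralizer_singleton_iff]
      have h3 := congrArg (fun y => y * b) h1
      simpa [mul_assoc] using h3.symm
    have e2 : ⁅v, a⁆ = (a * v * a⁻¹ * v⁻¹)⁻¹ := by rw [commutatorElement_def]; group
    rw [e2]
    exact inv_mem h2
  intro x hx
  exact (mem_centralizer_singleton_iff.1 (hle hx)).symm

end BK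

end Cfsg.Agent.Omega.OM.Lev.Low.TorusV
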