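import Cfsg.Agent.Omega.OM.SwapV.Torus.Frame

/-!
# TORUS over an abstract module (box R): the common elementary abelian groups, (UNI) (the proofs of `TorusK/Uni.lean`)
-/

set_option autoImplicit false
set_option linter.unusedSectionVars false

namespace Cfsg.Agent.Omega.OM.Lev.Low.TorusV

open Subgroup Cfsg Cfsg.Agent.ZN Cfsg.Agent.ZN.ChoiceBase Cfsg.Agent.Omega.OM.Lev.Low.TorusK
open Cfsg.Agent.Omega.SQ1.Bau (mem_sup_comm card_sup_comm elem_comm elem_sq)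
open Cfsg.Agent.Omega.NO3S.Level.Claim (Fm Bl cB mem_cB cB_le)
open Cfsg.Agent.Omega.OM.Lev.Uni (FrL)
open Cfsg.Agent.Omega.OM.Lev.Low.TorusK.PBC
open scoped commutatorElement

universe u

variable {G : Type u} [Group G] {ι : Type} {S B Q V Xn ZJ B0 X M0 Y0 : Subgroup G} {L W Z C A : ι → Subgroup G} {z : G}
  {l : ι} {K N N1 N0 : Subgroup G}

namespace BK

/-- `[X, K] ≤ [N, K]` -/
theorem act [Finite G] (h : TK S B Q V Xn ZJ B0 X M0 Y0 L W Z C A z) (k : BK B B0 X M0 Y0 W l K N N1 N0) {g x : G}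
    (hg : g ∈ K) (hx : x ∈ X) : g * x * g⁻¹ * x⁻¹ ∈ (⁅N, K⁆ : Subgroup G) := by
  rw [← h.zB] at hx
  obtain ⟨c, hc, hcl, n, hn, rfl⟩ := k.pb.Z_split hx
  have h1 := k.pb.comm_mem hg (k.pb.N1N hn)
  have h2 : c * (g * n * g⁻¹ * n⁻¹) = (g * n * g⁻¹ * n⁻¹) * c :=
    ((ChoiceBase.mem_zc.1 hc).2.2 _ (k.pb.NB (k.pb.VN h1))).symm
  have e : g * (c * n) * g⁻¹ * (c * n)⁻¹ = g * n * g⁻¹ * n⁻¹ := by
    calc g * (c * n) * g⁻¹ * (c * n)⁻¹ = (g * c) * n * g⁻¹ * (n⁻¹ * c⁻¹) := by group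
      _ = (c * g) * n * g⁻¹ * (n⁻¹ * c⁻¹) := by rw [hcl g hg]
      _ = c * (g * n * g⁻¹ * n⁻¹) * c⁻¹ := by group
      _ = (g * n * g⁻¹ * n⁻¹) * c * c⁻¹ := by rw [h2]
      _ = _ := by group
  rw [e]
  exact h1

/-- a `K`-invariant `D ≤ N` containing an element `≠ 1` of `W l` contains `[N, K]` -/
theorem le_of [Finite G] (k : BK B B0 X M0 Y0 W l K N N1 N0) {D : Subgroup G} (hD : K ≤ normalizer (D : Set G)) {w : G}
    (hw : w ∈ W l) (hw1 : w ≠ 1) (hwD : w ∈ D) : ⁅N, K⁆ ≤ D := by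
  have hU : K ≤ normalizer ((D ⊓ N : Subgroup G) : Set G) := fun g hg => by
    rw [mem_normalizer_iff_cj, cj_inf, cj_eq_of_mem_normalizer (hD hg), cj_eq_of_mem_normalizer (k.pb.LN hg)]
  have hne : ¬ D ⊓ N ≤ N0 := fun hle => hw1 (by
    have h1 : w ∈ W l ⊓ N0 := ⟨hw, hle ⟨hwD, k.pb.N1N (k.WN hw)⟩⟩
    rwa [k.WN0, mem_bot] at h1)
  rw [Subgroup.commutator_le]
  intro v hv g hg
  obtain ⟨u, hu, n, hn, rfl⟩ := k.pb.cover inf_le_right hU hne hv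
  have h1 : ⁅u * n, g⁆ = u * (g * u⁻¹ * g⁻¹) := by
    rw [commutatorElement_def]
    have h2 := k.pb.N0c g hg n⁻¹ (inv_mem hn)
    calc u * n * g * (u * n)⁻¹ * g⁻¹ = u * n * (g * n⁻¹) * u⁻¹ * g⁻¹ := by group
      _ = u * n * (n⁻¹ * g) * u⁻¹ * g⁻¹ := by rw [h2]
      _ = _ := by group
  rw [h1]
  exact mul_mem hu.1 ((mem_normalizer_iff.1 (hD hg) _).1 (inv_mem hu.1))

/-- elements of `W l` centralised by `K` -/
theorem W_cen (k : BK B B0 X M0 Y0 W l K N N1 N0) {w : G} (hw : w ∈ W l) (hc : ∀ g ∈ K, g * w = w * g) : w = 1 := by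
  obtain ⟨t, ht, -, -, hf⟩ := k.tor
  exact hf w hw (by rw [hc t ht]; group)

/-- if `e = w c` with `1 ≠ w ∈ W l`, `c` centralised by `K`, is in the `K`-invariant group `D`, then `[N, K] ≤ D` -/
theorem le_of' [Finite G] (k : BK B B0 X M0 Y0 W l K N N1 N0) {D : Subgroup G} (hD : K ≤ normalizer (D : Set G))
    {w c : G} (hw : w ∈ W l) (hw1 : w ≠ 1) (hc : ∀ g ∈ K, g * c = c * g) (hwD : w * c ∈ D) : ⁅N, K⁆ ≤ D := by
  obtain ⟨t, ht, -, htW, hf⟩ := k.tor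
  refine k.le_of hD (w := t * w * t⁻¹ * w⁻¹) (mul_mem (htW w hw) (inv_mem hw)) (fun e => hw1 (hf w hw ?_)) ?_
  · exact mul_inv_eq_one.1 e
  · have h1 := mul_mem ((mem_normalizer_iff.1 (hD ht) _).1 hwD) (inv_mem hwD)
    have e : t * (w * c) * t⁻¹ * (w * c)⁻¹ = t * w * t⁻¹ * w⁻¹ := by
      have h2 := hc t ht
      calc t * (w * c) * t⁻¹ * (w * c)⁻¹ = t * w * (c * t⁻¹) * c⁻¹ * w⁻¹ := by group
        _ = t * w * (t⁻¹ * (t * c) * t⁻¹) * c⁻¹ * w⁻¹ := by group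
        _ = t * w * (t⁻¹ * (c * t) * t⁻¹) * c⁻¹ * w⁻¹ := by rw [h2]
        _ = _ := by group
    rw [e] at h1
    exact h1

theorem VB0 [Finite G] (k : BK B B0 X M0 Y0 W l K N N1 N0) : ⁅N, K⁆ ≤ B0 := k.pb.VN.trans k.pb.NB

theorem VY0 [Finite G] (k : BK B B0 X M0 Y0 W l K N N1 N0) : ⁅N, K⁆ ≤ Y0 := k.pb.VN.trans k.NY

end BK

/-- the group `E ∩ C(X) ∩ Y₀` -/
theorem exists_U_aux [Finite G] (h : TK S B Q V Xn ZJ B0 X M0 Y0 L W Z C A z) {E : Subgroup G}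
    (hE : IsElementaryAbelian 2 E) (hEB : ∀ e ∈ E, (∀ x ∈ X, e * x = x * e) → e ∈ B0) :
    ∃ U : Subgroup G, IsElementaryAbelian 2 U ∧ U ≤ B0 ∧ U ≤ Y0 ∧ U ≤ E ∧ ∀ l K N N1 N0, BK B B0 X M0 Y0 W l K N N1 N0 →
      K ≤ normalizer (E : Set G) → (∃ w ∈ W l, w ≠ 1 ∧ ∃ c, (∀ g ∈ K, g * c = c * g) ∧ w * c ∈ E) →
        ⁅N, K⁆ ≤ U ∧ K ≤ normalizer (U : Set G) := by
  refine ⟨E ⊓ centralizer (X : Set G) ⊓ Y0, Cfsg.Agent.PLocal.ThompsonJ.isElementaryAbelian_mono hE (inf_le_left.trans inf_le_left), ?_, inf_le_right,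
    inf_le_left.trans inf_le_left, ?_⟩
  · rintro e ⟨⟨h1, h2⟩, -⟩
    exact hEB e h1 fun x hx => (mem_centralizer_iff.1 h2 x hx).symm
  · rintro l K N N1 N0 k hKE ⟨w, hw, hw1, c, hc, hwc⟩
    have hVE : ⁅N, K⁆ ≤ E := k.le_of' hKE hw hw1 hc hwc
    refine ⟨le_inf (le_inf hVE fun v hv => mem_centralizer_iff.2 fun x hx => ?_) k.VY0, ?_⟩
    · exact (h.cX (k.VB0 hv) hx).symm
    · intro g hg
      have key : ∀ g ∈ K, cj g (E ⊓ centralizer (X : Set G) ⊓ Y0) ≤ E ⊓ centralizer (X : Set G) ⊓ Y0 := by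
        intro g hg y hy0
        obtain ⟨y, ⟨⟨hyE, hyX⟩, hyY⟩, rfl⟩ := ex_cj hy0
        refine ⟨⟨(mem_normalizer_iff.1 (hKE hg) _).1 hyE, mem_centralizer_iff.2 fun x hx => ?_⟩,
          (mem_normalizer_iff.1 (h.MY (k.KM hg)) _).1 hyY⟩
        have h1 := k.act h (inv_mem hg) hx
        have h2 : y * (g⁻¹ * x * g⁻¹⁻¹ * x⁻¹) = (g⁻¹ * x * g⁻¹⁻¹ * x⁻¹) * y := elem_comm hE y hyE _ (hVE h1)
        have h3 : x * y = y * x := mem_centralizer_iff.1 hyX x hx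
        have h4 : y * (g⁻¹ * x * g) = (g⁻¹ * x * g) * y := by
          calc y * (g⁻¹ * x * g) = y * (g⁻¹ * x * g⁻¹⁻¹ * x⁻¹) * x := by group
            _ = (g⁻¹ * x * g⁻¹⁻¹ * x⁻¹) * (y * x) := by rw [h2]; group
            _ = (g⁻¹ * x * g⁻¹⁻¹ * x⁻¹) * (x * y) := by rw [h3]
            _ = _ := by group
        calc x * (g * y * g⁻¹) = g * ((g⁻¹ * x * g) * y) * g⁻¹ := by group
          _ = g * (y * (g⁻¹ * x * g)) * g⁻¹ := by rw [h4]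
          _ = _ := by group
      exact mem_normalizer_of_cj_le (key g hg)

namespace TK

variable (h : TK S B Q V Xn ZJ B0 X M0 Y0 L W Z C A z)
include h

theorem exists_Z (i : ι) : ∃ x ∈ Z i, x ≠ 1 := by
  by_contra hc
  push Not at hc
  have h1 : Z i = ⊥ := eq_bot_iff.2 fun x hx => mem_bot.2 (hc x hx)
  have h2 := h.fr.cardZ i
  rw [h1, Subgroup.card_bot] at h2
  omega

/-- **the common group for the blocks over one line** -/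
theorem exists_U1 [Finite G] (l : ι) : ∃ U : Subgroup G, IsElementaryAbelian 2 U ∧ U ≤ B0 ∧ U ≤ Y0 ∧
    ∀ K N N1 N0, BK B B0 X M0 Y0 W l K N N1 N0 → ⁅N, K⁆ ≤ U ∧ K ≤ normalizer (U : Set G) := by
  obtain ⟨E, hE, hEB, hZE, hn⟩ := h.loc1 l
  obtain ⟨U, h1, h2, h3, -, h4⟩ := exists_U_aux h hE fun e he hc => h.mX e (hEB he) hc
  refine ⟨U, h1, h2, h3, fun K N N1 N0 k => ?_⟩
  obtain ⟨x, hx, hx1⟩ := h.exists_Z l
  refine h4 l K N N1 N0 k (fun g hg => hn g fun p hp y hy => k.cW p hp y (h.ZW p hy) g hg) ⟨x, h.ZW l hx, hx1, 1, by simp, ?_⟩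
  rw [mul_one]
  exact hZE (h.fr.Z_le l hx)

/-- **the common group for the blocks over two lines** -/
theorem exists_U2 [Finite G] {l m : ι} (hlm : l ≠ m) : ∃ U : Subgroup G, IsElementaryAbelian 2 U ∧ U ≤ B0 ∧ U ≤ Y0 ∧
    (∀ K N N1 N0, BK B B0 X M0 Y0 W l K N N1 N0 → ⁅N, K⁆ ≤ U ∧ K ≤ normalizer (U : Set G)) ∧
    ∀ K N N1 N0, BK B B0 X M0 Y0 W m K N N1 N0 → ⁅N, K⁆ ≤ U ∧ K ≤ normalizer (U : Set G) := by
  obtain ⟨E, hE, hEB, hZE, hn⟩ := h.loc2 l m hlm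
  obtain ⟨U, h1, h2, h3, -, h4⟩ := exists_U_aux h hE hEB
  obtain ⟨x, hx, hx1⟩ := h.exists_Z l
  obtain ⟨y, hy, hy1⟩ := h.exists_Z m
  have hxy := hZE x hx y hy hx1 hy1
  have hcm : x * y = y * x := h.fr.Vc (h.fr.ZV l hx) (h.fr.ZV m hy)
  refine ⟨U, h1, h2, h3, fun K N N1 N0 k => ?_, fun K N N1 N0 k => ?_⟩
  · exact h4 l K N N1 N0 k (fun g hg => hn g fun p hp _ y hy => k.cW p hp y (h.ZW p hy) g hg)
      ⟨x, h.ZW l hx, hx1, y, fun g hg => k.cW m (Ne.symm hlm) y (h.ZW m hy) g hg, hxy⟩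
  · exact h4 m K N N1 N0 k (fun g hg => hn g fun p _ hp y hy => k.cW p hp y (h.ZW p hy) g hg)
      ⟨y, h.ZW m hy, hy1, x, fun g hg => k.cW l hlm x (h.ZW l hx) g hg, by rw [← hcm]; exact hxy⟩

end TK

namespace BK

/-- `Claim.Bl` on `U` -/
theorem bl [Finite G] (h : TK S B Q V Xn ZJ B0 X M0 Y0 L W Z C A z) (k : BK B B0 X M0 Y0 W l K N N1 N0)
    {T U H : Subgroup G} {AA : Set (Subgroup G)} (f : Fm T U H B0 (U ⊓ X) AA) (hV : ⁅N, K⁆ ≤ U)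
    (hK : K ≤ normalizer (U : Set G)) (hH : K ≤ H) : Bl T U H B0 (U ⊓ X) AA K ⁅N, K⁆ :=
  BlOf.bl_V k.pb f (by rw [h.zB]) hV hH hK

/-- an element of `[[N, K], B₀]` not centralised by any block over the same line -/
theorem exists_nc [Finite G] (k : BK B B0 X M0 Y0 W l K N N1 N0) {K' : Subgroup G}
    (hK' : ∀ w ∈ W l, (∀ g ∈ K', g * w = w * g) → w = 1) (hc : Nat.card (W l) = 4) :
    ∃ b ∈ B0, ∃ v ∈ (⁅N, K⁆ : Subgroup G), b * v * b⁻¹ * v⁻¹ ∉ centralizer (K' : Set G) := by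
  by_contra hcon
  push Not at hcon
  -- an element of `[N, K] - N₁`
  obtain ⟨v, hv, hv1⟩ := k.pb.exists_v
  obtain ⟨u, hu, n, hn, rfl⟩ := k.pb.exists_V hv
  have hu1 : u ∉ N1 := fun h1 => hv1 (mul_mem h1 (k.pb.N01 hn))
  have huN := k.pb.VN hu
  -- an element of `W l`
  obtain ⟨w, hw, hw1⟩ : ∃ w ∈ W l, w ≠ 1 := by
    by_contra h0
    push Not at h0
    have h1 : W l = ⊥ := eq_bot_iff.2 fun x hx => mem_bot.2 (h0 x hx)
    rw [h1, Subgroup.card_bot] at hc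
    omega
  obtain ⟨b, hb, n0, hn0, e⟩ := k.pb.line huN hu1 (k.WN hw)
  obtain ⟨t, ht, htB, htW, hf⟩ := k.tor
  have h1 := hcon b hb u hu
  have htb : t * b * t⁻¹ ∈ B0 := (mem_normalizer_iff.1 htB b).1 hb
  have htu : t * u * t⁻¹ ∈ (⁅N, K⁆ : Subgroup G) := (mem_normalizer_iff.1 (k.pb.LV ht) u).1 hu
  have h2 := hcon _ htb _ htu
  have e1 : b * u * b⁻¹ * u⁻¹ = w * n0⁻¹ := by rw [e]; group
  have e2 : t * b * t⁻¹ * (t * u * t⁻¹) * (t * b * t⁻¹)⁻¹ * (t * u * t⁻¹)⁻¹ = t * (b * u * b⁻¹ * u⁻¹) * t⁻¹ := by group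
  have e3 : t * (w * n0⁻¹) * t⁻¹ * (w * n0⁻¹)⁻¹ = t * w * t⁻¹ * w⁻¹ := by
    have h3 := k.pb.N0c t ht n0 hn0
    calc t * (w * n0⁻¹) * t⁻¹ * (w * n0⁻¹)⁻¹ = t * w * (n0⁻¹ * t⁻¹) * n0 * w⁻¹ := by group
      _ = t * w * ((t * n0)⁻¹) * n0 * w⁻¹ := by group
      _ = t * w * ((n0 * t)⁻¹) * n0 * w⁻¹ := by rw [h3]
      _ = _ := by group
  have h4 : t * w * t⁻¹ * w⁻¹ ∈ centralizer (K' : Set G) := by
    rw [← e3, ← e1, ← e2]
    exact mul_mem h2 (inv_mem h1)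
  have h5 := hK' _ (mul_mem (htW w hw) (inv_mem hw)) fun g hg => mem_centralizer_iff.1 h4 g hg
  exact hw1 (hf w hw (mul_inv_eq_one.1 h5))

end BK

variable {K' N' N1' N0' : Subgroup G}

/-- **(UNI)** -/
theorem uni' [Finite G] (h : TK S B Q V Xn ZJ B0 X M0 Y0 L W Z C A z) (k : BK B B0 X M0 Y0 W l K N N1 N0)
    (k' : BK B B0 X M0 Y0 W l K' N' N1' N0') :
    ⁅N', K'⁆ ≤ ⁅N, K⁆ ⊔ X ∧ cB B0 ⁅N, K⁆ = cB B0 ⁅N', K'⁆ := by
  obtain ⟨U, hU, hUB, hUY, hall⟩ := h.exists_U1 l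
  obtain ⟨h1, h2⟩ := hall K N N1 N0 k
  obtain ⟨h1', h2'⟩ := hall K' N' N1' N0' k'
  obtain ⟨T, AA, f⟩ := h.fml U (normalizer (U : Set G) ⊓ M0) hU hUB hUY inf_le_left inf_le_right
  have b1 := k.bl h f h1 h2 (le_inf h2 k.KM)
  have b2 := k'.bl h f h1' h2' (le_inf h2' k'.KM)
  have hm := k'.exists_nc (K' := K) (fun w hw hc => k.W_cen hw hc) (h.cardW l)
  exact ⟨(uni f b1 b2 hm).trans (sup_le_sup_left inf_le_right _), cB_eq f b1 b2 hm⟩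

/-- `[V X, B₀] = [V, B₀]` -/
theorem comm_supX [Finite G] (h : TK S B Q V Xn ZJ B0 X M0 Y0 L W Z C A z) {D D' : Subgroup G} (hD' : D' ≤ D ⊔ X)
    (hD : D ≤ B0) : ⁅D', B0⁆ ≤ ⁅D, B0⁆ := by
  rw [Subgroup.commutator_le]
  intro v hv b hb
  obtain ⟨d, hd, x, hx, rfl⟩ := mem_sup_comm (fun a ha b hb => h.cX (hD ha) hb) (hD' hv)
  have h1 : ⁅d * x, b⁆ = ⁅d, b⁆ := by
    rw [commutatorElement_def, commutatorElement_def]
    have h2 := h.cX hb hx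
    calc d * x * b * (d * x)⁻¹ * b⁻¹ = d * (x * b) * x⁻¹ * d⁻¹ * b⁻¹ := by group
      _ = d * (b * x) * x⁻¹ * d⁻¹ * b⁻¹ := by rw [h2]
      _ = _ := by group
  rw [h1]
  exact commutator_mem_commutator hd hb

/-- `[[N, K], B₀]` depends only on the line -/
theorem ch_eq [Finite G] (h : TK S B Q V Xn ZJ B0 X M0 Y0 L W Z C A z) (k : BK B B0 X M0 Y0 W l K N N1 N0)
    (k' : BK B B0 X M0 Y0 W l K' N' N1' N0') : ⁅⁅N, K⁆, B0⁆ = ⁅⁅N', K'⁆, B0⁆ :=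
  le_antisymm (comm_supX h (uni' h k' k).1 k'.VB0) (comm_supX h (uni' h k k').1 k.VB0)

end Cfsg.Agent.Omega.OM.Lev.Low.TorusV
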